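import Groth.Prelude.Def_HMNum

/-!
# Translating limit points and fibre weights by a point of the group
-/

set_option autoImplicit false
set_option backward.isDefEq.respectTransparency false

universe u

open CategoryTheory MonoidalCategory CartesianMonoidalCategory MonObj AlgebraicGeometry Opposite

noncomputable section

namespace Groth.Agent.HMu

variable {S : Scheme.{u}} {G X V : Over S} [GrpObj G]

theorem act_act (a : AlgGrp.Action G X) {T : Over S} (g h : T ⟶ G) (x : T ⟶ X) :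
    lift g (lift h x ≫ a.act) ≫ a.act = lift (g * h) x ≫ a.act :=
  ((Magnet.MonAct.ofAction a).lift_mul_act g h x).symm

theorem one_act (a : AlgGrp.Action G X) {T : Over S} (x : T ⟶ X) : lift (1 : T ⟶ G) x ≫ a.act = x :=
  (Magnet.MonAct.ofAction a).lift_one_act x

/-- The constant point. -/
abbrev cst (g : 𝟙_ (Over S) ⟶ G) (T : Over S) : T ⟶ G := toUnit T ≫ g

theorem comp_cst (g : 𝟙_ (Over S) ⟶ G) {T T' : Over S} (f : T' ⟶ T) : f ≫ cst g T = cst g T' := by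
  rw [cst, cst, ← Category.assoc, toUnit_unique (f ≫ toUnit T) (toUnit T')]

theorem cst_inv_mul (g : 𝟙_ (Over S) ⟶ G) (T : Over S) : cst g⁻¹ T * cst g T = 1 := by
  rw [cst, cst, ← MonObj.comp_mul, inv_mul_cancel, MonObj.comp_one]

theorem cst_mul_inv (g : 𝟙_ (Over S) ⟶ G) (T : Over S) : cst g T * cst g⁻¹ T = 1 := by
  rw [cst, cst, ← MonObj.comp_mul, mul_inv_cancel, MonObj.comp_one]

theorem appLE_eq {Y Z : Scheme.{u}} {f f' : Y ⟶ Z} (h : f = f') (U : Z.Opens) (W : Y.Opens) (e : W ≤ f ⁻¹ᵁ U)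
    (s : Γ(Z, U)) : f.appLE U W e s = f'.appLE U W (h ▸ e) s := by
  subst h; rfl

variable {a : AlgGrp.Action G X}

theorem preimage_top [Subsingleton ↥S] {U : X.left.Opens} (x : 𝟙_ (Over S) ⟶ X) (s : ↥S)
    (h : x.left.base s ∈ U) : x.left ⁻¹ᵁ U = ⊤ := by
  apply eq_top_iff.mpr
  intro z _
  change (show ↥S from z) ∈ x.left ⁻¹ᵁ U
  rw [Subsingleton.elim (show ↥S from z) s]
  exact h

/-- The value of a coordinate at a translated point is a constant multiple of the value of a coordinate. -/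
theorem eval_translate (π : V ⟶ X) (chart : ∀ U : X.left.Opens, Set (Γ(V.left, π.left ⁻¹ᵁ U)))
    (Φ : AlgGrp.Action G V) (hπ : Φ.act ≫ π = (G ◁ π) ≫ a.act) (hlin : GLinSh.IsLinearLift a π Φ chart hπ)
    {U U' : X.left.Opens} {y : Γ(V.left, π.left ⁻¹ᵁ U)} {y' : Γ(V.left, π.left ⁻¹ᵁ U')}
    (hy : y ∈ chart U) (hy' : y' ∈ chart U') {T T' : Over S} (g : T' ⟶ G) (t : T' ⟶ T) (x : T ⟶ X)
    (hx : x.left ⁻¹ᵁ U = ⊤) (x' : T ⟶ X) (hx' : x'.left ⁻¹ᵁ U' = ⊤)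
    (hxx : lift g (t ≫ x) ≫ a.act = t ≫ x') :
    ∃ C : Γ(T'.left, ⊤), ∀ (v : T' ⟶ V) (hv : v ≫ π = t ≫ x)
      (hgv : (lift g v ≫ Φ.act) ≫ π = t ≫ x'),
      HMNum.evalFn π y' (lift g v ≫ Φ.act) (HMNum.top_le_preimage π hx' hgv) =
        C * HMNum.evalFn π y v (HMNum.top_le_preimage π hx hv) := by
  obtain ⟨c, hc⟩ := hlin U U' y y' hy hy'
  have hb : ⊤ ≤ (lift g (t ≫ x)).left ⁻¹ᵁ (a.act.left ⁻¹ᵁ U' ⊓ (snd G X).left ⁻¹ᵁ U) := by
    refine le_trans (le_inf (a := (lift g (t ≫ x) ≫ a.act).left ⁻¹ᵁ U') (b := (lift g (t ≫ x) ≫ snd G X).left ⁻¹ᵁ U) ?_ ?_) (le_of_eq rfl)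
    · have : (lift g (t ≫ x) ≫ a.act).left ⁻¹ᵁ U' = ⊤ := by
        rw [hxx, show (t ≫ x').left ⁻¹ᵁ U' = t.left ⁻¹ᵁ (x'.left ⁻¹ᵁ U') from rfl, hx']; rfl
      exact this.ge
    · have : (lift g (t ≫ x) ≫ snd G X).left ⁻¹ᵁ U = ⊤ := by
        rw [lift_snd, show (t ≫ x).left ⁻¹ᵁ U = t.left ⁻¹ᵁ (x.left ⁻¹ᵁ U) from rfl, hx]; rfl
      exact this.ge
  refine ⟨(lift g (t ≫ x)).left.appLE _ ⊤ hb c, fun v hv hgv => ?_⟩
  have hw : lift g v ≫ (G ◁ π) = lift g (t ≫ x) := by rw [lift_whiskerLeft, hv]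
  have hW : ⊤ ≤ (lift g v).left ⁻¹ᵁ GLinSh.liftOpen a π U U' := by
    have : (lift g v).left ⁻¹ᵁ GLinSh.liftOpen a π U U' =
        (lift g v ≫ (G ◁ π)).left ⁻¹ᵁ (a.act.left ⁻¹ᵁ U' ⊓ (snd G X).left ⁻¹ᵁ U) := rfl
    rw [this, hw]
    exact hb
  have := congrArg ((lift g v).left.appLE (GLinSh.liftOpen a π U U') ⊤ hW) hc
  simp only [map_mul, ← CommRingCat.comp_apply, Scheme.Hom.appLE_comp_appLE] at this
  refine Eq.trans ?_ (this.trans ?_)
  · rfl
  · exact congrArg₂ (· * ·) (appLE_eq (congrArg CategoryTheory.CommaMorphism.left hw) _ _ _ _)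
      (appLE_eq (congrArg CategoryTheory.CommaMorphism.left (lift_snd g v)) _ _ _ _)

/-- The numerical function at a translated point. -/
theorem isMu_translate [Subsingleton ↥S] (s : ↥S) (B : GLinSh.LinBun G a) (x : 𝟙_ (Over S) ⟶ X)
    (l l' : Red.Gm S ⟶ G) [IsMonHom l] [IsMonHom l'] (g : 𝟙_ (Over S) ⟶ G)
    (hc : cst g (Red.Gm S) * l = l' * cst g (Red.Gm S)) (m : ℤ) (h : HMNum.IsMu B l x m) :
    HMNum.IsMu B l' (lift g x ≫ a.act) m := by
  have key : ∀ {T : Over S} (u : T ⟶ Red.Gm S), cst g T * (u ≫ l) = (u ≫ l') * cst g T := by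
    intro T u
    simpa only [MonObj.comp_mul, comp_cst] using congrArg (fun q => u ≫ q) hc
  have hg0 : cst g (𝟙_ (Over S)) = g := by
    rw [cst, toUnit_unique (toUnit _) (𝟙 _), Category.id_comp]
  obtain ⟨p, ⟨φ, hφx, hφp⟩, hfix, U, y, hy, hU, hw⟩ := h
  have heq : ∀ {T : Over S} (u : T ⟶ Red.Gm S) (b : T ⟶ HMNum.A1 S) (t : T ⟶ 𝟙_ (Over S)),
      lift (lift u b ≫ (Magnet.subAct S ℤ HMNum.plus).act) t ≫ φ.1 = lift (u ≫ l) (lift b t ≫ φ.1) ≫ a.act := by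
    intro T u b t
    rw [(Magnet.MonAct.mem_eqvHom_iff φ.1).mp φ.2, Magnet.MonAct.lift_restrict_act]
    rfl
  have hmem : Magnet.MonAct.IsEquivariant ((Magnet.subAct S ℤ HMNum.plus).prod (Magnet.MonAct.trivial _ (𝟙_ (Over S))))
      (HMNum.gmAct a l') (lift (cst g _) φ.1 ≫ a.act) := by
    rw [Magnet.MonAct.mem_eqvHom_iff]
    intro T u b t
    rw [comp_lift_assoc, comp_cst, heq, Magnet.MonAct.lift_restrict_act, comp_lift_assoc, comp_cst,
      Magnet.MonAct.ofAction_act, act_act, act_act, key]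
  refine ⟨lift g p ≫ a.act, ⟨⟨_, hmem⟩, ?_, ?_⟩, ?_, ?_⟩
  · rw [← hφx, Magnet.MonAct.eqvHom.evalAt_app, Magnet.MonAct.eqvHom.evalAt_app]
    dsimp only
    rw [comp_lift_assoc, comp_cst, hg0]
  · rw [← hφp, HMNum.limitPt_eq, HMNum.limitPt_eq]
    dsimp only
    rw [comp_lift_assoc, comp_cst, hg0]
  · intro T t u
    rw [comp_lift_assoc, act_act, show t ≫ g = cst g T by rw [cst, toUnit_unique (toUnit T) t], ← key, ← act_act, hfix]
  · obtain ⟨U', hs, y', hy'⟩ := B.atlas.cover ((lift g p ≫ a.act).left.base s)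
    have hU' := preimage_top _ s hs
    refine ⟨U', y', hy', hU', fun T t u v hv huv => ?_⟩
    have hxx : lift (cst g T) (t ≫ p) ≫ a.act = t ≫ lift g p ≫ a.act := by
      rw [comp_lift_assoc, show t ≫ g = cst g T by rw [cst, toUnit_unique (toUnit T) t]]
    obtain ⟨C, hC⟩ := eval_translate B.π B.atlas.chart B.lift B.lift_π B.lift_linear hy hy' (cst g T) t p hU
      (lift g p ≫ a.act) hU' hxx
    let v₀ := lift (cst g⁻¹ T) v ≫ B.lift.act
    have hv₀ : v₀ ≫ B.π = t ≫ p := by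
      rw [Category.assoc, B.lift_π, lift_whiskerLeft_assoc, hv, ← hxx, act_act, cst_inv_mul, one_act]
    have hgv₀ : lift (cst g T) v₀ ≫ B.lift.act = v := by rw [act_act, cst_mul_inv, one_act]
    have hu₀ : (lift (u ≫ l) v₀ ≫ B.lift.act) ≫ B.π = t ≫ p := by
      rw [Category.assoc, B.lift_π, lift_whiskerLeft_assoc, hv₀, hfix]
    have hgu : lift (cst g T) (lift (u ≫ l) v₀ ≫ B.lift.act) ≫ B.lift.act = lift (u ≫ l') v ≫ B.lift.act := by
      rw [act_act, key, ← act_act, hgv₀]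
    have e1 := hC v₀ hv₀ (by rw [hgv₀]; exact hv)
    have e2 := hC _ hu₀ (by rw [hgu]; exact huv)
    have e3 := hw T t u v₀ hv₀ hu₀
    simp only [hgv₀] at e1
    simp only [hgu] at e2
    rw [e2, e1, e3]
    ring

end Groth.Agent.HMu
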