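import Groth.Agent.HMu.Limit

/-!
# Conjugate one-parameter subgroups; elements of the parabolic subgroup
-/

set_option autoImplicit false
set_option backward.isDefEq.respectTransparency false

universe u

open CategoryTheory CategoryTheory.Limits MonoidalCategory CartesianMonoidalCategory MonObj AlgebraicGeometry Opposite

noncomputable section

namespace Groth.Agent.HMu

theorem isMonHom_conj {S : Scheme.{u}} {A G : Over S} [MonObj A] [GrpObj G] (l : A ⟶ G) [IsMonHom l]
    (g : 𝟙_ (Over S) ⟶ G) : IsMonHom (cst g A * l * (cst g A)⁻¹) where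
  one_hom := by
    rw [MonObj.comp_mul, MonObj.comp_mul, GrpObj.comp_inv, comp_cst, IsMonHom.one_hom]
    rw [show cst g (𝟙_ (Over S)) * η[G] * (cst g (𝟙_ (Over S)))⁻¹ =
      cst g (𝟙_ (Over S)) * 1 * (cst g (𝟙_ (Over S)))⁻¹ by
        rw [Hom.one_def, toUnit_unique (toUnit (𝟙_ (Over S))) (𝟙 _), Category.id_comp],
      _root_.mul_one, mul_inv_cancel, Hom.one_def, toUnit_unique (toUnit (𝟙_ (Over S))) (𝟙 _), Category.id_comp]
  mul_hom := by
    rw [MonObj.comp_mul, MonObj.comp_mul, GrpObj.comp_inv, comp_cst, IsMonHom.mul_hom,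
      ← lift_fst_comp_snd_comp, ← Hom.mul_def, ← lift_fst_comp_snd_comp, ← Hom.mul_def]
    simp only [MonObj.comp_mul, GrpObj.comp_inv, comp_cst]
    group

section Prod

variable (k : Type u) [Field k]

/-- The canonical map of monoid algebras. -/
def can (P : Type) [CommMonoid P] : MonoidAlgebra Z.{u} P →+* MonoidAlgebra k P :=
  MonoidAlgebra.mapRingHom _ ((Int.castRingHom k).comp ULift.ringEquiv.toRingHom)

/-- Functoriality of `k[P]`. -/
def mp {P Q : Type} [CommMonoid P] [CommMonoid Q] (φ : P →* Q) : MonoidAlgebra k P →ₐ[k] MonoidAlgebra k Q :=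
  MonoidAlgebra.mapDomainAlgHom k k φ

theorem mp_can {P Q : Type} [CommMonoid P] [CommMonoid Q] (φ : P →* Q) :
    (mp k φ).toRingHom.comp (can k P) =
      (can k Q).comp (MonoidAlgebra.mapDomainBialgHom Z.{u} φ).toAlgHom.toRingHom := by
  refine MonoidAlgebra.ringHom_ext (fun r => ?_) (fun n => ?_)
  · exact RingHom.congr_fun (LineGrp.ringHom_ulift_ext
      (((mp k φ).toRingHom.comp (can k P)).comp MonoidAlgebra.singleOneRingHom)
      (((can k Q).comp (MonoidAlgebra.mapDomainBialgHom Z.{u} φ).toAlgHom.toRingHom).comp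
        MonoidAlgebra.singleOneRingHom)) r
  · simp [mp, can]

abbrev Mu : Type := Multiplicative ℤ
abbrev Nu : Type := Multiplicative ↥HMNum.plus

/-- `Spec k[P × Q] ⟶ A(P) ⊗ A(Q)`. -/
def kap (P Q : Type) [CommMonoid P] [CommMonoid Q] :
    LineGrp.specA k (MonoidAlgebra k (P × Q)) ⟶
      LineGrp.rep k (MonoidAlgebra Z.{u} P) ⊗ LineGrp.rep k (MonoidAlgebra Z.{u} Q) :=
  lift (LineGrp.pt ((mp k (MonoidHom.inl P Q)).toRingHom.comp (can k P)))
    (LineGrp.pt ((mp k (MonoidHom.inr P Q)).toRingHom.comp (can k Q)))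

theorem epi_kap (P Q : Type) [CommMonoid P] [CommMonoid Q] : Epi (kap k P Q) := by
  let W := LineGrp.rep k (MonoidAlgebra Z.{u} P) ⊗ LineGrp.rep k (MonoidAlgebra Z.{u} Q)
  have hP : ∀ (R : Type u) [CommRing R] [Algebra (ULift.{u} ℤ) R], IsAffine (LineGrp.rep k R).left := fun R _ _ => by
    show IsAffine (pullback (X := Spec (CommRingCat.of R)) (Y := Spec (CommRingCat.of k))
      (Z := Spec (CommRingCat.of (ULift.{u} ℤ)))
      ((Spec (CommRingCat.of R)).asOver (Spec (CommRingCat.of (ULift.{u} ℤ)))).hom _)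
    infer_instance
  have : IsAffine W.left := by
    haveI := hP (MonoidAlgebra Z.{u} P); haveI := hP (MonoidAlgebra Z.{u} Q)
    show IsAffine (pullback _ _)
    infer_instance
  let e := W.left.isoSpec
  let A := Γ(W.left, ⊤)
  obtain ⟨s, hs⟩ := Spec.map_surjective (e.inv ≫ W.hom)
  algebraize [s.hom]
  let q : LineGrp.specA k A ≅ W := Over.isoMk e.symm (by
    show e.inv ≫ _ = Spec.map (CommRingCat.ofHom s.hom)
    rw [CommRingCat.ofHom_hom, hs])
  let x := LineGrp.co (q.hom ≫ fst _ _)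
  let y := LineGrp.co (q.hom ≫ snd _ _)
  let h : MonoidAlgebra k (P × Q) →ₐ[k] A := MonoidAlgebra.lift k A _
    ((x.toMonoidHom.comp (MonoidAlgebra.of Z.{u} _)).coprod (y.toMonoidHom.comp (MonoidAlgebra.of Z.{u} _)))
  have hx : h.toRingHom.comp ((mp k (MonoidHom.inl P Q)).toRingHom.comp (can k P)) = x := by
    refine MonoidAlgebra.ringHom_ext (fun r => ?_) (fun n => ?_)
    · exact RingHom.congr_fun (LineGrp.ringHom_ulift_ext
        ((h.toRingHom.comp ((mp k (MonoidHom.inl P Q)).toRingHom.comp (can k P))).comp MonoidAlgebra.singleOneRingHom)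
        (x.comp MonoidAlgebra.singleOneRingHom)) r
    · simp [can, mp, h]
      rw [← MonoidAlgebra.one_def, map_one, _root_.mul_one]
  have hy : h.toRingHom.comp ((mp k (MonoidHom.inr P Q)).toRingHom.comp (can k Q)) = y := by
    refine MonoidAlgebra.ringHom_ext (fun r => ?_) (fun n => ?_)
    · exact RingHom.congr_fun (LineGrp.ringHom_ulift_ext
        ((h.toRingHom.comp ((mp k (MonoidHom.inr P Q)).toRingHom.comp (can k Q))).comp MonoidAlgebra.singleOneRingHom)
        (y.comp MonoidAlgebra.singleOneRingHom)) r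
    · simp [can, mp, h]
      rw [← MonoidAlgebra.one_def, map_one, _root_.one_mul]
  have hq : LineGrp.mapA h ≫ kap k P Q = q.hom := by
    rw [kap, comp_lift, LineGrp.mapA_pt, LineGrp.mapA_pt, hx, hy, LineGrp.pt_co, LineGrp.pt_co, ← comp_lift,
      lift_fst_snd, Category.comp_id]
  haveI : Epi (LineGrp.mapA h ≫ kap k P Q) := hq ▸ inferInstance
  exact epi_of_epi (LineGrp.mapA h) _

theorem ext_of_incl₂ {Y : Over (Spec (CommRingCat.of k))} [IsSeparated Y.hom]
    {p q : Red.Gm (Spec (CommRingCat.of k)) ⊗ HMNum.A1 (Spec (CommRingCat.of k)) ⟶ Y}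
    (h : (Red.Gm _ ◁ HMNum.incl _) ≫ p = (Red.Gm _ ◁ HMNum.incl _) ≫ q) : p = q := by
  haveI := epi_kap k Mu Nu
  rw [← cancel_epi (kap k Mu Nu)]
  let φ : Mu × Nu →* Mu × Mu := (MonoidHom.id Mu).prodMap (AddMonoidHom.toMultiplicative HMNum.plus.subtype)
  have hφ : Function.Injective φ := by
    rintro ⟨a, b⟩ ⟨c, d⟩ hab
    obtain ⟨h1, h2⟩ := Prod.mk.inj hab
    exact Prod.ext h1 (Multiplicative.toAdd.injective (Subtype.ext h2))
  have e : LineGrp.mapA (mp k φ) ≫ kap k Mu Nu = kap k Mu Mu ≫ (Red.Gm _ ◁ HMNum.incl _) := by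
    rw [kap, kap, comp_lift, lift_whiskerLeft, LineGrp.mapA_pt, LineGrp.mapA_pt]
    congr 1
    · apply congrArg LineGrp.pt
      rw [← RingHom.comp_assoc]
      congr 1
      refine RingHom.ext fun x => ?_
      simp only [mp, AlgHom.toRingHom_eq_coe, RingHom.coe_comp, RingHom.coe_coe, Function.comp_apply,
        MonoidAlgebra.mapDomainAlgHom_apply]
      ext; simp only [MonoidAlgebra.coeff_mapDomain, ← Finsupp.mapDomain_comp]
      rfl
    · apply LineGrp.ext_co
      rw [LineGrp.co_pt, co_incl, LineGrp.co_pt, RingHom.comp_assoc, ← mp_can, ← RingHom.comp_assoc,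
        ← RingHom.comp_assoc]
      congr 1
      refine RingHom.ext fun x => ?_
      simp only [mp, AlgHom.toRingHom_eq_coe, RingHom.coe_comp, RingHom.coe_coe, Function.comp_apply,
        MonoidAlgebra.mapDomainAlgHom_apply]
      ext; simp only [MonoidAlgebra.coeff_mapDomain, ← Finsupp.mapDomain_comp]
      rfl
  haveI : IsDomain (MonoidAlgebra k (Mu × Mu)) := NoZeroDivisors.to_isDomain _
  have hi : Function.Injective (mp k φ) := MonoidAlgebra.mapDomain_injective hφ
  haveI : IsDomain (MonoidAlgebra k (Mu × Nu)) := hi.isDomain _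
  haveI : IsReduced (LineGrp.specA k (MonoidAlgebra k (Mu × Nu))).left :=
    inferInstanceAs (IsReduced (Spec (CommRingCat.of (MonoidAlgebra k (Mu × Nu)))))
  haveI : IsDominant (LineGrp.mapA (mp k φ)).left := by
    show IsDominant (Spec.map _)
    exact ⟨(PrimeSpectrum.denseRange_comap_iff_ker_le_nilRadical (mp k φ).toRingHom).mpr
      (le_of_eq_of_le ((RingHom.injective_iff_ker_eq_bot (mp k φ).toRingHom).mp hi) bot_le)⟩
  ext : 1
  refine ext_of_isDominant_of_isSeparated Y.hom ?_ (LineGrp.mapA (mp k φ)).left ?_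
  · rw [Over.w, Over.w]
  · rw [← Over.comp_left, ← Over.comp_left, reassoc_of% e, h, ← reassoc_of% e]

end Prod

section Parabolic

variable {k : Type u} [Field k] {G X : Over (Spec (CommRingCat.of k))} [GrpObj G] [IsSeparated G.hom]
  [IsSeparated X.hom] {a : AlgGrp.Action G X}

theorem subsingleton_spec : Subsingleton ↥(Spec (CommRingCat.of k)) :=
  inferInstanceAs (Subsingleton (PrimeSpectrum k))

theorem isMu_parabolic (B : GLinSh.LinBun G a) (l : Red.Gm (Spec (CommRingCat.of k)) ⟶ G) [IsMonHom l]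
    (g : 𝟙_ (Over (Spec (CommRingCat.of k))) ⟶ G) (f : HMNum.A1 (Spec (CommRingCat.of k)) ⟶ G)
    (hf : HMNum.incl _ ≫ f = l * cst g _ * l⁻¹) (x : 𝟙_ (Over (Spec (CommRingCat.of k))) ⟶ X) (m : ℤ)
    (hm : HMNum.IsMu B l x m) : HMNum.IsMu B l (lift g x ≫ a.act) m := by
  haveI := subsingleton_spec (k := k)
  let s : ↥(Spec (CommRingCat.of k)) := (⟨⊥, Ideal.isPrime_bot⟩ : PrimeSpectrum k)
  -- equivariance of `f`
  have hcomm : (Magnet.subAct (Spec (CommRingCat.of k)) ℤ HMNum.plus).act ≫ f =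
      (fst (Red.Gm (Spec (CommRingCat.of k))) (HMNum.A1 (Spec (CommRingCat.of k))) ≫ l) * (snd (Red.Gm (Spec (CommRingCat.of k))) (HMNum.A1 (Spec (CommRingCat.of k))) ≫ f) * (fst (Red.Gm (Spec (CommRingCat.of k))) (HMNum.A1 (Spec (CommRingCat.of k))) ≫ l)⁻¹ := by
    apply ext_of_incl₂ k
    have h1 : ((Red.Gm (Spec (CommRingCat.of k))) ◁ HMNum.incl _) ≫ (Magnet.subAct (Spec (CommRingCat.of k)) ℤ HMNum.plus).act =
        (fst (Red.Gm (Spec (CommRingCat.of k))) (Red.Gm (Spec (CommRingCat.of k))) * snd (Red.Gm (Spec (CommRingCat.of k))) (Red.Gm (Spec (CommRingCat.of k)))) ≫ HMNum.incl _ := by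
      rw [MonObj.mul_comp, Magnet.subAct]
      show ((Red.Gm (Spec (CommRingCat.of k))) ◁ HMNum.incl _) ≫ ((Magnet.MonAct.regular (HMNum.A1 (Spec (CommRingCat.of k)))).restrict (HMNum.incl _)).act = _
      rw [Magnet.MonAct.restrict_act, Magnet.MonAct.regular_act, ← Category.assoc,
        show ((Red.Gm (Spec (CommRingCat.of k))) ◁ HMNum.incl (Spec (CommRingCat.of k))) ≫ (HMNum.incl _ ▷ (HMNum.A1 (Spec (CommRingCat.of k)))) =
          lift (fst (Red.Gm (Spec (CommRingCat.of k))) (Red.Gm (Spec (CommRingCat.of k))) ≫ HMNum.incl _) (snd (Red.Gm (Spec (CommRingCat.of k))) (Red.Gm (Spec (CommRingCat.of k))) ≫ HMNum.incl _) by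
            apply CartesianMonoidalCategory.hom_ext <;> simp, ← Hom.mul_def]
    rw [← Category.assoc, h1, Category.assoc, hf]
    simp only [MonObj.comp_mul, GrpObj.comp_inv, comp_cst, whiskerLeft_fst_assoc, whiskerLeft_snd_assoc,
      MonObj.mul_comp, hf]
    group
  have key : ∀ {T : Over (Spec (CommRingCat.of k))} (u : T ⟶ (Red.Gm (Spec (CommRingCat.of k)))) (b : T ⟶ (HMNum.A1 (Spec (CommRingCat.of k)))),
      (lift u b ≫ (Magnet.subAct (Spec (CommRingCat.of k)) ℤ HMNum.plus).act) ≫ f =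
        (u ≫ l) * (b ≫ f) * (u ≫ l)⁻¹ := by
    intro T u b
    rw [Category.assoc, hcomm]
    simp only [MonObj.comp_mul, GrpObj.comp_inv, lift_fst_assoc, lift_snd_assoc]
  obtain ⟨y, ⟨φ, hφx, hφy⟩, hfix, hwt⟩ := hm
  -- the value of `f` at the origin commutes with `l`
  let h := HMNum.origin (Spec (CommRingCat.of k)) ≫ f
  have horig : lift (𝟙 (Red.Gm (Spec (CommRingCat.of k)))) (toUnit (Red.Gm (Spec (CommRingCat.of k))) ≫ HMNum.origin _) ≫
      (Magnet.subAct (Spec (CommRingCat.of k)) ℤ HMNum.plus).act = toUnit (Red.Gm (Spec (CommRingCat.of k))) ≫ HMNum.origin _ := by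
    have h2 := (Magnet.MonAct.isEquivariant_iff _ _ _).mp (Magnet.isEquivariant_faceMapS (Spec (CommRingCat.of k)) HMNum.isFace_bot)
      (Red.Gm (Spec (CommRingCat.of k))) (𝟙 (Red.Gm (Spec (CommRingCat.of k)))) (toUnit (Red.Gm (Spec (CommRingCat.of k))) ≫ η[Magnet.AMonS _ ↥(⊥ : AddSubmonoid ℤ)])
    rw [Category.assoc, ← Category.assoc (lift _ _), AMonS_bot_hom_ext (lift (𝟙 (Red.Gm (Spec (CommRingCat.of k)))) _ ≫ _) (toUnit (Red.Gm (Spec (CommRingCat.of k))) ≫ η[Magnet.AMonS _ ↥(⊥ : AddSubmonoid ℤ)]), Category.assoc] at h2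
    exact h2.symm
  have hh : cst h (Red.Gm (Spec (CommRingCat.of k))) * l = l * cst h (Red.Gm (Spec (CommRingCat.of k))) := by
    have := key (𝟙 (Red.Gm (Spec (CommRingCat.of k)))) (toUnit (Red.Gm (Spec (CommRingCat.of k))) ≫ HMNum.origin _)
    rw [horig, Category.assoc, Category.id_comp] at this
    conv_lhs => rw [show cst h (Red.Gm (Spec (CommRingCat.of k))) = toUnit (Red.Gm (Spec (CommRingCat.of k))) ≫ HMNum.origin _ ≫ f from rfl, this]
    group
    rfl
  have hyy := isLimitPt_of_isFixedBy hfix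
  obtain ⟨z, hz, hzw⟩ := isMu_translate s B y l l h hh m ⟨y, hyy, hfix, hwt⟩
  have heq := fun {T : Over (Spec (CommRingCat.of k))} (u : T ⟶ (Red.Gm (Spec (CommRingCat.of k)))) (b : T ⟶ (HMNum.A1 (Spec (CommRingCat.of k)))) (t : T ⟶ 𝟙_ _) =>
    attr_eq (N := HMNum.plus) φ u b t
  have hmem : Magnet.MonAct.IsEquivariant ((Magnet.subAct (Spec (CommRingCat.of k)) ℤ HMNum.plus).prod
      (Magnet.MonAct.trivial _ (𝟙_ _))) (HMNum.gmAct a l) (lift (fst (HMNum.A1 (Spec (CommRingCat.of k))) _ ≫ f) φ.1 ≫ a.act) := by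
    rw [Magnet.MonAct.mem_eqvHom_iff]
    intro T u b t
    rw [comp_lift_assoc, lift_fst_assoc, heq, key, Magnet.MonAct.lift_restrict_act, comp_lift_assoc, lift_fst_assoc,
      Magnet.MonAct.ofAction_act, act_act, act_act]
    group
  have hlim : HMNum.IsLimitPt a l (lift g x ≫ a.act) (lift h y ≫ a.act) := by
    refine ⟨⟨_, hmem⟩, ?_, ?_⟩
    · rw [← hφx, Magnet.MonAct.eqvHom.evalAt_app, Magnet.MonAct.eqvHom.evalAt_app]
      dsimp only
      rw [comp_lift_assoc, lift_fst_assoc]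
      congr 2
      have := congrArg (fun q => η[(Red.Gm (Spec (CommRingCat.of k)))] ≫ q) hf
      simp only [MonObj.comp_mul, GrpObj.comp_inv, comp_cst, IsMonHom.one_hom_assoc] at this
      rw [show toUnit (𝟙_ (Over (Spec (CommRingCat.of k)))) = 𝟙 _ from toUnit_unique _ _, Category.id_comp, this,
        IsMonHom.one_hom]
      rw [show (η[G] : 𝟙_ _ ⟶ G) = 1 by rw [Hom.one_def, show toUnit (𝟙_ (Over (Spec (CommRingCat.of k)))) = 𝟙 _ from toUnit_unique _ _, Category.id_comp], _root_.one_mul, inv_one, _root_.mul_one]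
      rw [toUnit_unique η[𝟙_ (Over (Spec (CommRingCat.of k)))] (𝟙 _), Category.id_comp]
    · rw [← hφy, HMNum.limitPt_eq, HMNum.limitPt_eq]
      dsimp only
      rw [comp_lift_assoc, lift_fst_assoc, Category.assoc,
        show toUnit (𝟙_ (Over (Spec (CommRingCat.of k)))) = 𝟙 _ from toUnit_unique _ _, Category.id_comp]
  have hz' : lift h y ≫ a.act = z := by
    refine limit_unique k (isLimitPt_of_isFixedBy ?_) hz
    obtain ⟨φ', -, h'⟩ := hlim
    exact h' ▸ isFixedBy_limitPt φ'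
  exact ⟨_, hlim, hz' ▸ hzw⟩

end Parabolic

end Groth.Agent.HMu
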