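import Groth.Agent.HMu.Weights
import Groth.Agent.HMu.Parabolic
import Groth.Agent.RatExt.Points

/-!
# The numerical function takes a value on a proper scheme
-/

set_option autoImplicit false
set_option backward.isDefEq.respectTransparency false
set_option linter.style.haveILetI false

universe u

open CategoryTheory CategoryTheory.Limits MonoidalCategory CartesianMonoidalCategory MonObj AlgebraicGeometry Opposite
open TopologicalSpace

noncomputable section

namespace Groth.Agent.HMu

variable {k : Type u} [Field k]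

section ToSpec

variable {A B : Type u} [CommRing A] [Algebra k A] [CommRing B] [Algebra k B] {Z W : Over (Spec (CommRingCat.of k))}

/-- The constants among the functions. -/
abbrev csts (Z : Over (Spec (CommRingCat.of k))) : k →+* Γ(Z.left, ⊤) :=
  ((Scheme.ΓSpecIso (CommRingCat.of k)).inv ≫ Z.hom.appTop).hom

/-- The morphism to an affine scheme given by functions. -/
def toSpec (φ : A →+* Γ(Z.left, ⊤)) (hφ : φ.comp (algebraMap k A) = csts Z) : Z ⟶ LineGrp.specA k A :=
  Over.homMk (Z.left.toSpecΓ ≫ Spec.map (CommRingCat.ofHom φ)) (by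
    show (_ ≫ Spec.map _) ≫ Spec.map (CommRingCat.ofHom (algebraMap k A)) = Z.hom
    rw [Category.assoc, ← Spec.map_comp, ← CommRingCat.ofHom_comp, hφ,
      show CommRingCat.ofHom (csts Z) = (Scheme.ΓSpecIso (CommRingCat.of k)).inv ≫ Z.hom.appTop from rfl,
      Spec.map_comp, ← Scheme.toSpecΓ_naturality_assoc, ← SpecMap_ΓSpecIso_hom, ← Spec.map_comp, Iso.inv_hom_id,
      Spec.map_id, Category.comp_id])

theorem appTop_comp_csts (f : W ⟶ Z) : f.left.appTop.hom.comp (csts Z) = csts W := by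
  show ((Scheme.ΓSpecIso (CommRingCat.of k)).inv ≫ Z.hom.appTop ≫ f.left.appTop).hom = _
  rw [← Scheme.Hom.comp_appTop, Over.w]

theorem comp_toSpec (f : W ⟶ Z) (φ : A →+* Γ(Z.left, ⊤)) (hφ : φ.comp (algebraMap k A) = csts Z) :
    f ≫ toSpec φ hφ = toSpec (f.left.appTop.hom.comp φ) (by rw [RingHom.comp_assoc, hφ, appTop_comp_csts]) := by
  ext : 1
  show f.left ≫ Z.left.toSpecΓ ≫ Spec.map _ = W.left.toSpecΓ ≫ Spec.map _
  rw [Scheme.toSpecΓ_naturality_assoc, ← Spec.map_comp]
  rfl

theorem toSpec_mapA (g : B →ₐ[k] A) (φ : A →+* Γ(Z.left, ⊤)) (hφ : φ.comp (algebraMap k A) = csts Z) :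
    toSpec φ hφ ≫ LineGrp.mapA g = toSpec (φ.comp g.toRingHom) (by rw [RingHom.comp_assoc, ← hφ]; congr 1; ext c; exact g.commutes c) := by
  ext : 1
  show (Z.left.toSpecΓ ≫ Spec.map _) ≫ Spec.map _ = Z.left.toSpecΓ ≫ Spec.map _
  rw [Category.assoc, ← Spec.map_comp]
  rfl

theorem toSpec_congr {φ φ' : A →+* Γ(Z.left, ⊤)} (h : φ = φ') (hφ : φ.comp (algebraMap k A) = csts Z) :
    toSpec φ hφ = toSpec φ' (h ▸ hφ) := by subst h; rfl

theorem toSpec_appTop (φ : A →+* Γ(Z.left, ⊤)) (hφ : φ.comp (algebraMap k A) = csts Z) (x : A) :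
    (toSpec φ hφ).left.appTop ((Scheme.ΓSpecIso (CommRingCat.of A)).inv x) = φ x := by
  show (Z.left.toSpecΓ ≫ Spec.map (CommRingCat.ofHom φ)).appTop _ = _
  rw [Scheme.Hom.comp_appTop, ConcreteCategory.comp_apply]
  have h := congr($(Scheme.ΓSpecIso_inv_naturality (CommRingCat.ofHom φ)) x)
  refine (congrArg _ h.symm).trans ?_
  rw [Scheme.toSpecΓ_appTop, ConcreteCategory.comp_apply]
  exact Iso.inv_hom_id_apply _ _

end ToSpec

theorem valuationRing_stalk (x : (Spec (CommRingCat.of (Polynomial k)) : Scheme.{u})) :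
    ∃ _ : IsDomain ((Spec (CommRingCat.of (Polynomial k))).presheaf.stalk x),
      ValuationRing ((Spec (CommRingCat.of (Polynomial k))).presheaf.stalk x) := by
  let S := (Spec (CommRingCat.of (Polynomial k))).presheaf.stalk x
  let q : PrimeSpectrum (Polynomial k) := x
  letI : Algebra (Polynomial k) S := StructureSheaf.stalkAlgebra (Polynomial k) q
  haveI : IsLocalization.AtPrime S q.asIdeal := StructureSheaf.IsLocalization.to_stalk (Polynomial k) q
  haveI hdom : IsDomain S := IsLocalization.isDomain_of_le_nonZeroDivisors (R := Polynomial k)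
    (M := q.asIdeal.primeCompl) S (Ideal.primeCompl_le_nonZeroDivisors q.asIdeal)
  refine ⟨hdom, ?_⟩
  haveI : IsLocalRing S := IsLocalization.AtPrime.isLocalRing S q.asIdeal
  haveI : IsPrincipalIdealRing S := ⟨fun I => by
    obtain ⟨g, hg⟩ := (IsPrincipalIdealRing.principal (I.comap (algebraMap (Polynomial k) S))).principal
    refine ⟨algebraMap (Polynomial k) S g, ?_⟩
    rw [← IsLocalization.map_under q.asIdeal.primeCompl S I, show I.under (Polynomial k) = _ from hg]
    exact (Ideal.map_span _ _).trans (by rw [Set.image_singleton])⟩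
  infer_instance

/-- The generator of the exponents of the line. -/
abbrev g1 : ↥HMNum.plus := ⟨1, AddSubmonoid.mem_multiples 1⟩

variable {X : Over (Spec (CommRingCat.of k))}

/-- A morphism from the multiplicative group to a proper scheme extends to the line. -/
theorem exists_extension [IsProper X.hom] (q : Gm' k ⟶ X) : ∃ φ' : A1' k ⟶ X, HMNum.incl _ ≫ φ' = q := by
  let A := Polynomial k
  let L := Localization.Away (Polynomial.X : Polynomial k)
  let al : A →ₐ[k] L := IsScalarTower.toAlgHom k A L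
  have hXu : IsUnit (algebraMap A L Polynomial.X) := IsLocalization.Away.algebraMap_isUnit _
  let σ0 : A →+* Γ((A1' k).left, ⊤) := Polynomial.eval₂RingHom (csts (A1' k)) (mon g1)
  have hσ0 : σ0.comp (algebraMap k A) = csts (A1' k) := RingHom.ext fun c => by
    show Polynomial.eval₂ _ _ (Polynomial.C c) = _
    exact Polynomial.eval₂_C _ _
  let χ : A →+* Γ((Gm' k).left, ⊤) := Polynomial.eval₂RingHom (csts (Gm' k)) (mon (M := ℤ) 1)
  have hσχ : (HMNum.incl _).left.appTop.hom.comp σ0 = χ := by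
    refine Polynomial.ringHom_ext (fun c => ?_) ?_
    · simp only [σ0, χ, RingHom.comp_apply, Polynomial.coe_eval₂RingHom, Polynomial.eval₂_C]
      exact RingHom.congr_fun (appTop_comp_csts (HMNum.incl (Spec (CommRingCat.of k)))) c
    · simp only [σ0, χ, RingHom.comp_apply, Polynomial.coe_eval₂RingHom, Polynomial.eval₂_X]
      exact map_mon (k := k) HMNum.plus.subtype g1
  have hχu : IsUnit (χ Polynomial.X) := by
    refine IsUnit.of_mul_eq_one (mon (M := ℤ) (-1)) ?_
    rw [show χ Polynomial.X = mon (M := ℤ) 1 from Polynomial.eval₂_X _ _, ← mon_add]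
    exact mon_zero
  let τ0 : L →+* Γ((Gm' k).left, ⊤) := IsLocalization.Away.lift (Polynomial.X : A) hχu
  have hτχ : τ0.comp al.toRingHom = χ := IsLocalization.Away.lift_comp _ _
  have hτ0 : τ0.comp (algebraMap k L) = csts (Gm' k) := by
    rw [IsScalarTower.algebraMap_eq k A L, ← RingHom.comp_assoc, show τ0.comp (algebraMap A L) = χ from hτχ]
    exact RingHom.ext fun c => by
      show Polynomial.eval₂ _ _ (Polynomial.C c) = _
      exact Polynomial.eval₂_C _ _
  let σ := toSpec (Z := A1' k) σ0 hσ0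
  let τ := toSpec (Z := Gm' k) τ0 hτ0
  let j : LineGrp.specA k L ⟶ LineGrp.specA k A := LineGrp.mapA al
  have hcomm : HMNum.incl _ ≫ σ = τ ≫ j := by
    rw [comp_toSpec, toSpec_mapA]
    exact toSpec_congr (hσχ.trans hτχ.symm) _
  let u₀ : (Γ((LineGrp.specA k L).left, ⊤))ˣ :=
    (hXu.map (Scheme.ΓSpecIso (CommRingCat.of L)).inv.hom).unit
  let ν : LineGrp.specA k L ⟶ Gm' k := GmPts.ptOfUnit u₀
  have hτν : τ ≫ ν = 𝟙 _ := by
    apply GmPts.gmFn_injective
    show Red.gmFn (τ ≫ ν) = Red.gmFn (𝟙 (Gm' k))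
    rw [GmPts.gmFn_comp, GmPts.gmFn_ptOfUnit]
    refine (toSpec_appTop τ0 hτ0 _).trans ?_
    rw [← RingHom.comp_apply, show τ0.comp (algebraMap A L) = χ from hτχ,
      show χ Polynomial.X = mon (M := ℤ) 1 from Polynomial.eval₂_X _ _]
    have h := mon_eq_tPow 1 _ (𝟙 (Gm' k))
    rw [zpow_one, GmPts.val_unitOfPt, Over.id_left, Scheme.Hom.id_appTop] at h
    exact h
  haveI : IsOpenImmersion j.left := IsOpenImmersion.of_isLocalization (Polynomial.X : A)
  let U := j.left.opensRange
  haveI : IsIntegral (LineGrp.specA k A).left := inferInstanceAs (IsIntegral (Spec (CommRingCat.of A)))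
  haveI : IsLocallyNoetherian (LineGrp.specA k A).left :=
    inferInstanceAs (IsLocallyNoetherian (Spec (CommRingCat.of A)))
  have hU : Dense (U : Set (LineGrp.specA k A).left) := by
    refine U.isOpen.dense ?_
    haveI : IsDomain L := IsLocalization.isDomain_of_le_nonZeroDivisors (R := A)
      (M := Submonoid.powers Polynomial.X) L (Submonoid.powers_le.2 (mem_nonZeroDivisors_of_ne_zero
      Polynomial.X_ne_zero))
    exact Set.range_nonempty (h := inferInstanceAs (Nonempty (PrimeSpectrum L))) j.left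
  let h : U.toScheme ⟶ X.left := j.left.isoOpensRange.inv ≫ (ν ≫ q).left
  have hh : h ≫ X.hom = U.ι ≫ (LineGrp.specA k A).hom := by
    rw [Category.assoc, Over.w, ← Over.w j, Scheme.Hom.isoOpensRange_inv_comp_assoc]
  obtain ⟨U', hUU', h', hh', hres, hall⟩ := RatExt.exists_hom_points X.hom (LineGrp.specA k A).hom U hU h hh
    Set.univ fun x _ => valuationRing_stalk x
  have htop : U' = ⊤ := top_le_iff.1 fun x _ => hall x trivial
  subst htop
  let φ0 : LineGrp.specA k A ⟶ X := Over.homMk ((LineGrp.specA k A).left.topIso.inv ≫ h') (by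
    rw [Category.assoc, hh', reassoc_of% Scheme.toIso_inv_ι])
  have hj : j ≫ φ0 = ν ≫ q := by
    ext : 1
    show j.left ≫ _ ≫ h' = _
    have e : j.left ≫ (LineGrp.specA k A).left.topIso.inv =
        j.left.isoOpensRange.hom ≫ (LineGrp.specA k A).left.homOfLE hUU' := by
      rw [← cancel_mono (⊤ : (LineGrp.specA k A).left.Opens).ι]
      simp
    rw [reassoc_of% e, hres, Iso.hom_inv_id_assoc]
  exact ⟨σ ≫ φ0, by rw [reassoc_of% hcomm, hj, reassoc_of% hτν]⟩

variable {G : Over (Spec (CommRingCat.of k))} [GrpObj G] {a : AlgGrp.Action G X}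
  (l : Red.Gm (Spec (CommRingCat.of k)) ⟶ G) [IsMonHom l]

/-- The limit exists on a proper scheme. -/
theorem exists_limit [IsProper X.hom] (x : Pt X) : ∃ y : Pt X, HMNum.IsLimitPt a l x y := by
  obtain ⟨φ', hφ'⟩ := exists_extension (lift l (toUnit _ ≫ x) ≫ a.act)
  have hmem : Magnet.MonAct.IsEquivariant ((Magnet.subAct (Spec (CommRingCat.of k)) ℤ HMNum.plus).prod
      (Magnet.MonAct.trivial _ (𝟙_ _))) (HMNum.gmAct a l) (fst (A1' k) (𝟙_ _) ≫ φ') := by
    rw [Magnet.MonAct.mem_eqvHom_iff]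
    intro T u b t
    have key : (Magnet.subAct (Spec (CommRingCat.of k)) ℤ HMNum.plus).act ≫ φ' =
        lift (fst (Gm' k) (A1' k) ≫ l) (snd (Gm' k) (A1' k) ≫ φ') ≫ a.act := by
      apply ext_of_incl₂ k
      have h1 : (Gm' k ◁ HMNum.incl _) ≫ (Magnet.subAct (Spec (CommRingCat.of k)) ℤ HMNum.plus).act =
          (fst (Gm' k) (Gm' k) * snd (Gm' k) (Gm' k)) ≫ HMNum.incl _ := by
        rw [MonObj.mul_comp, Magnet.subAct]
        show (Gm' k ◁ HMNum.incl _) ≫ ((Magnet.MonAct.regular (A1' k)).restrict (HMNum.incl _)).act = _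
        rw [Magnet.MonAct.restrict_act, Magnet.MonAct.regular_act, ← Category.assoc,
          show (Gm' k ◁ HMNum.incl (Spec (CommRingCat.of k))) ≫ (HMNum.incl _ ▷ A1' k) =
            lift (fst (Gm' k) (Gm' k) ≫ HMNum.incl _) (snd (Gm' k) (Gm' k) ≫ HMNum.incl _) by
              apply CartesianMonoidalCategory.hom_ext <;> simp, ← Hom.mul_def]
      rw [← Category.assoc, h1, Category.assoc, hφ', comp_lift_assoc, comp_lift_assoc, MonObj.mul_comp,
        whiskerLeft_fst_assoc, whiskerLeft_snd_assoc, hφ', comp_lift_assoc, act_act, ← Category.assoc,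
        toUnit_unique ((fst (Gm' k) (Gm' k) * snd (Gm' k) (Gm' k)) ≫ toUnit _) (toUnit _), ← Category.assoc,
        toUnit_unique (snd (Gm' k) (Gm' k) ≫ toUnit _) (toUnit _)]
    rw [lift_fst_assoc, lift_fst_assoc, Magnet.MonAct.lift_restrict_act, Category.assoc, key, comp_lift_assoc,
      lift_fst_assoc, lift_snd_assoc]
    rfl
  let φ : (HMNum.attrPlus a l).obj (op (𝟙_ _)) := ⟨_, hmem⟩
  refine ⟨HMNum.limitPt φ, φ, ?_, rfl⟩
  rw [Magnet.MonAct.eqvHom.evalAt_app]
  dsimp only [φ]
  rw [lift_fst_assoc, Category.assoc, ← IsMonHom.one_hom (HMNum.incl (Spec (CommRingCat.of k))), Category.assoc,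
    hφ', comp_lift_assoc, comp_lift_assoc, IsMonHom.one_hom, ← Hom.one_def, ← Category.assoc, ← Category.assoc,
    toUnit_unique ((toUnit (𝟙_ (Over (Spec (CommRingCat.of k)))) ≫ η[Gm' k]) ≫ toUnit _) (𝟙 _), Category.id_comp]
  exact one_act a x

/-- The numerical function takes a value on a proper scheme. -/
theorem exists_isMu [Infinite k] [IsProper X.hom] (B : GLinSh.LinBun G a) (x : Pt X) :
    ∃ m : ℤ, HMNum.IsMu B l x m := by
  obtain ⟨y, hy⟩ := exists_limit (a := a) l x
  obtain ⟨φ, -, h⟩ := id hy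
  obtain ⟨e, he⟩ := exists_fibreWeight (B := B) (l := l) (x₀ := y) (h ▸ isFixedBy_limitPt φ)
  exact ⟨-e, y, hy, by rwa [neg_neg]⟩

end Groth.Agent.HMu
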