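import Groth.Agent.HMu.Line

/-!
# The weight on the fibre at the limit and the orders of weight functions along an orbit
-/

set_option autoImplicit false
set_option backward.isDefEq.respectTransparency false
set_option linter.style.haveILetI false

universe u

open CategoryTheory CategoryTheory.Limits MonoidalCategory CartesianMonoidalCategory MonObj AlgebraicGeometry Opposite
open TopologicalSpace Filter

noncomputable section

namespace Groth.Agent.HMu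

variable {k : Type u} [Field k] {G X : Over (Spec (CommRingCat.of k))} [GrpObj G] {a : AlgGrp.Action G X}
  (B : GLinSh.LinBun G a)

/-- A point of the fibre line which is not the origin. -/
def Nz (v : Pt B.V) : Prop :=
  ∀ (U : X.left.Opens) (y : Γ(B.V.left, B.π.left ⁻¹ᵁ U)), y ∈ B.atlas.chart U →
    ∀ h : base v ∈ B.π.left ⁻¹ᵁ U, val y v h ≠ 0

variable {B}

theorem base_π {v : Pt B.V} {x : Pt X} (hv : v ≫ B.π = x) : B.π.left (base v) = base x := by
  rw [← hv, base_comp]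

theorem val_weight {n : ℕ} {f : Γ(B.V.left, ⊤)} {U : X.left.Opens} {y : Γ(B.V.left, B.π.left ⁻¹ᵁ U)}
    {c : Γ(X.left, U)} (hc : GLinSh.resTop B.π U f = B.π.left.app U c * y ^ n) (v : Pt B.V)
    (h : base v ∈ B.π.left ⁻¹ᵁ U) :
    val (U := ⊤) f v trivial = val c (v ≫ B.π) h * val y v h ^ n := by
  have h1 := congrArg (fun s => val s v h) hc
  simp only [val_mul, val_pow, val_app] at h1
  rw [← h1]
  exact (val_res le_top f v h).symm

theorem nz_of_val_ne_zero {v : Pt B.V} {U : X.left.Opens} {y : Γ(B.V.left, B.π.left ⁻¹ᵁ U)}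
    (hy : y ∈ B.atlas.chart U) (h : base v ∈ B.π.left ⁻¹ᵁ U) (hne : val y v h ≠ 0) : Nz B v := by
  intro U' y' hy' h'
  obtain ⟨c, hc, e⟩ := B.atlas.linear U U' y y' hy hy'
  have hm : base v ∈ B.π.left ⁻¹ᵁ (U ⊓ U') := ⟨h, h'⟩
  have h1 := congrArg (fun s => val s v hm) e
  simp only [val_mul, val_app, GLinSh.res] at h1
  rw [val_res, val_res] at h1
  rw [h1]
  exact mul_ne_zero (val_ne_zero_of_isUnit hc _ _) hne

theorem specMap_valHom {R : CommRingCat.{u}} {Y : Scheme.{u}} (f : Spec R ⟶ Y) {W : Y.Opens} (hW : IsAffineOpen W)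
    (h : ⊤ ≤ f ⁻¹ᵁ W) : Spec.map (f.appLE W ⊤ h ≫ (Scheme.ΓSpecIso R).hom) ≫ hW.fromSpec = f := by
  have h1 := IsAffineOpen.SpecMap_appLE_fromSpec f hW (isAffineOpen_top (Spec R)) h
  rw [IsAffineOpen.fromSpec_top, Scheme.isoSpec_Spec_inv] at h1
  rw [Spec.map_comp, Category.assoc]
  erw [h1]
  rw [← Category.assoc, ← Spec.map_comp, Iso.inv_hom_id, Spec.map_id]
  exact Category.id_comp _

theorem exists_nz (x : Pt X) : ∃ v : Pt B.V, v ≫ B.π = x ∧ Nz B v := by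
  obtain ⟨W, y, hxW, -, hy⟩ := GITss.exists_triv B (x := base x) (O := ⊤) trivial
  have hV := hy.isAffineOpen_preimage
  obtain ⟨ε, hε, hεy⟩ := hy.exists_retraction
  let g : Γ(B.V.left, B.π.left ⁻¹ᵁ W) ⟶ CommRingCat.of k := CommRingCat.ofHom ((valHom x hxW).comp ε)
  have hsec : Spec.map (CommRingCat.ofHom ε) ≫ hV.fromSpec ≫ B.π.left = hy.affine.fromSpec := by
    have he : B.π.left.app W ≫ CommRingCat.ofHom ε = 𝟙 _ := CommRingCat.hom_ext (RingHom.ext hε)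
    rw [← IsAffineOpen.SpecMap_appLE_fromSpec B.π.left hy.affine hV le_rfl, ← Category.assoc, ← Spec.map_comp,
      ← Scheme.Hom.app_eq_appLE, he, Spec.map_id]
    exact Category.id_comp _
  have hx : Spec.map (x.left.appLE W ⊤ (top_le_pre hxW) ≫ (Scheme.ΓSpecIso (CommRingCat.of k)).hom) ≫
      hy.affine.fromSpec = x.left := specMap_valHom _ _ _
  have hg : Spec.map g ≫ hV.fromSpec ≫ B.π.left = x.left := by
    rw [show g = CommRingCat.ofHom ε ≫ (x.left.appLE W ⊤ (top_le_pre hxW) ≫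
      (Scheme.ΓSpecIso (CommRingCat.of k)).hom) from rfl, Spec.map_comp, Category.assoc, hsec, hx]
  let v : Pt B.V := Over.homMk (Spec.map g ≫ hV.fromSpec) (by
    rw [← Over.w B.π, Category.assoc, reassoc_of% hg]
    exact Over.w x)
  have hv : v ≫ B.π = x := Over.OverMorphism.ext ((Category.assoc _ _ _).trans hg)
  have hm : base v ∈ B.π.left ⁻¹ᵁ W := by
    show B.π.left (base v) ∈ W
    rw [base_π hv]; exact hxW
  have hne : val y v hm ≠ 0 := by
    rw [val_ne_zero_iff]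
    show Spec.map g (IsLocalRing.closedPoint k) ∈ hV.fromSpec ⁻¹ᵁ B.V.left.basicOpen y
    rw [hV.fromSpec_preimage_basicOpen y]
    show g y ∉ (IsLocalRing.closedPoint k).asIdeal
    rw [show g y = valHom x hxW (ε y) from rfl, hεy, map_one]
    exact (Ideal.ne_top_iff_one _).1 (IsLocalRing.closedPoint k).isPrime.ne_top
  obtain ⟨U₀, hU₀, y₀, hy₀, rfl⟩ := hy.ex
  exact ⟨v, hv, nz_of_val_ne_zero hy₀ (hU₀ hm) (by rwa [GLinSh.res, val_res] at hne)⟩

/-- The translated point lies over the translated point. -/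
theorem act_π {T : Over (Spec (CommRingCat.of k))} (g : T ⟶ G) (v : T ⟶ B.V) :
    (lift g v ≫ B.lift.act) ≫ B.π = lift g (v ≫ B.π) ≫ a.act := by
  rw [Category.assoc, B.lift_π, lift_whiskerLeft_assoc]

/-- The coordinates of a translated point scale by a function on the base. -/
theorem exists_val_scale {U U' : X.left.Opens} {y : Γ(B.V.left, B.π.left ⁻¹ᵁ U)}
    {y' : Γ(B.V.left, B.π.left ⁻¹ᵁ U')} (hy : y ∈ B.atlas.chart U) (hy' : y' ∈ B.atlas.chart U') :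
    ∃ c : Γ((G ⊗ X).left, a.act.left ⁻¹ᵁ U' ⊓ (snd G X).left ⁻¹ᵁ U),
      ∀ (g : Pt G) (v : Pt B.V) (h' : base (lift g v ≫ B.lift.act) ∈ B.π.left ⁻¹ᵁ U') (h : base v ∈ B.π.left ⁻¹ᵁ U)
        (hm : base (lift g (v ≫ B.π)) ∈ a.act.left ⁻¹ᵁ U' ⊓ (snd G X).left ⁻¹ᵁ U),
        val y' (lift g v ≫ B.lift.act) h' = val c (lift g (v ≫ B.π)) hm * val y v h := by
  obtain ⟨c, hc⟩ := B.lift_linear U U' y y' hy hy'
  refine ⟨c, fun g v h' h hm => ?_⟩
  have hw : lift g v ≫ (G ◁ B.π) = lift g (v ≫ B.π) := lift_whiskerLeft _ _ _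
  have hW : base (lift g v) ∈ GLinSh.liftOpen a B.π U U' := by
    show (G ◁ B.π).left (base (lift g v)) ∈ a.act.left ⁻¹ᵁ U' ⊓ (snd G X).left ⁻¹ᵁ U
    rw [← base_comp, hw]; exact hm
  have h1 := congrArg (valHom (lift g v) hW) hc
  rw [map_mul, valHom_apply, valHom_apply, valHom_apply, val_appLE, val_appLE, val_appLE] at h1
  rw [h1, val_congr hw, val_congr (lift_snd g v)]

theorem mem_scale {U U' : X.left.Opens} {g : Pt G} {x : Pt X} (h : base x ∈ U)
    (h' : base (lift g x ≫ a.act) ∈ U') : base (lift g x) ∈ a.act.left ⁻¹ᵁ U' ⊓ (snd G X).left ⁻¹ᵁ U := by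
  refine ⟨h', ?_⟩
  show (snd G X).left (base (lift g x)) ∈ U
  rw [← base_comp, lift_snd]; exact h

/-- Translation preserves non-vanishing. -/
theorem Nz.translate {v : Pt B.V} (hv : Nz B v) (g : Pt G) : Nz B (lift g v ≫ B.lift.act) := by
  obtain ⟨U', hU', y', hy'⟩ := B.atlas.cover (base ((lift g v ≫ B.lift.act) ≫ B.π))
  obtain ⟨U, hU, y, hy⟩ := B.atlas.cover (base (v ≫ B.π))
  obtain ⟨c, hc⟩ := exists_val_scale hy' hy
  refine nz_of_val_ne_zero hy' hU' fun h0 => ?_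
  have e : lift g⁻¹ (lift g v ≫ B.lift.act) ≫ B.lift.act = v := by
    rw [act_act, inv_mul_cancel, one_act]
  have hm : base (lift g⁻¹ ((lift g v ≫ B.lift.act) ≫ B.π)) ∈ a.act.left ⁻¹ᵁ U ⊓ (snd G X).left ⁻¹ᵁ U' :=
    mem_scale hU' (by rw [← act_π, e]; exact hU)
  have h1 := hc g⁻¹ (lift g v ≫ B.lift.act) (by rw [e]; exact hU) hU' hm
  rw [h0, mul_zero, val_congr e] at h1
  exact hv U y hy _ h1

variable {l : Red.Gm (Spec (CommRingCat.of k)) ⟶ G}

/-- The restriction of a scaling function to the fixed point. -/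
theorem eval_scale {U : X.left.Opens} {y : Γ(B.V.left, B.π.left ⁻¹ᵁ U)} (hy : y ∈ B.atlas.chart U) {x₀ : Pt X}
    (hU : x₀.left ⁻¹ᵁ U = ⊤) (hfix : HMNum.IsFixedBy a l x₀) :
    ∃ C : Γ((Gm' k).left, ⊤), ∀ (T : Over (Spec (CommRingCat.of k))) (t : T ⟶ 𝟙_ _) (u : T ⟶ Gm' k)
      (v : T ⟶ B.V) (hv : v ≫ B.π = t ≫ x₀) (huv : (lift (u ≫ l) v ≫ B.lift.act) ≫ B.π = t ≫ x₀),
      HMNum.evalFn B.π y (lift (u ≫ l) v ≫ B.lift.act) (HMNum.top_le_preimage B.π hU huv) =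
        u.left.appTop C * HMNum.evalFn B.π y v (HMNum.top_le_preimage B.π hU hv) := by
  obtain ⟨c, hc⟩ := B.lift_linear U U y y hy hy
  let p : Gm' k ⟶ G ⊗ X := lift l (toUnit _ ≫ x₀)
  have hp : ⊤ ≤ p.left ⁻¹ᵁ (a.act.left ⁻¹ᵁ U ⊓ (snd G X).left ⁻¹ᵁ U) := by
    refine le_trans (le_inf (a := (p ≫ a.act).left ⁻¹ᵁ U) (b := (p ≫ snd G X).left ⁻¹ᵁ U) ?_ ?_) (le_of_eq rfl)
    · have h1 : p ≫ a.act = toUnit _ ≫ x₀ := by
        simpa only [Category.id_comp] using hfix _ (toUnit (Gm' k)) (𝟙 _)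
      rw [h1, show (toUnit (Gm' k) ≫ x₀).left ⁻¹ᵁ U = (toUnit (Gm' k)).left ⁻¹ᵁ (x₀.left ⁻¹ᵁ U) from rfl, hU]
      exact le_rfl
    · rw [lift_snd, show (toUnit (Gm' k) ≫ x₀).left ⁻¹ᵁ U = (toUnit (Gm' k)).left ⁻¹ᵁ (x₀.left ⁻¹ᵁ U) from rfl, hU]
      exact le_rfl
  refine ⟨p.left.appLE _ ⊤ hp c, fun T t u v hv huv => ?_⟩
  have hw : lift (u ≫ l) v ≫ (G ◁ B.π) = u ≫ p := by
    rw [lift_whiskerLeft, hv, comp_lift, ← Category.assoc, toUnit_unique (u ≫ toUnit _) t]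
  have hW : ⊤ ≤ (lift (u ≫ l) v).left ⁻¹ᵁ GLinSh.liftOpen a B.π U U := by
    have : (lift (u ≫ l) v).left ⁻¹ᵁ GLinSh.liftOpen a B.π U U =
        (lift (u ≫ l) v ≫ (G ◁ B.π)).left ⁻¹ᵁ (a.act.left ⁻¹ᵁ U ⊓ (snd G X).left ⁻¹ᵁ U) := rfl
    rw [this, hw]
    exact le_trans (le_of_eq rfl) (u.left.preimage_mono hp)
  have := congrArg ((lift (u ≫ l) v).left.appLE (GLinSh.liftOpen a B.π U U) ⊤ hW) hc
  simp only [map_mul, ← CommRingCat.comp_apply, Scheme.Hom.appLE_comp_appLE] at this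
  refine Eq.trans ?_ (this.trans ?_)
  · rfl
  · refine congrArg₂ (· * ·) ((appLE_eq (congrArg CategoryTheory.CommaMorphism.left hw) _ _ _ _).trans ?_)
      (appLE_eq (congrArg CategoryTheory.CommaMorphism.left (lift_snd (u ≫ l) v)) _ _ _ _)
    rw [← appLE_top u.left (by exact le_rfl), ← ConcreteCategory.comp_apply, Scheme.Hom.appLE_comp_appLE]
    rfl

theorem mem_top {U : X.left.Opens} {x : Pt X} (hU : x.left ⁻¹ᵁ U = ⊤) : base x ∈ U := by
  have : IsLocalRing.closedPoint k ∈ x.left ⁻¹ᵁ U := by rw [hU]; trivial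
  exact this

theorem evalFn_val {U : X.left.Opens} (y : Γ(B.V.left, B.π.left ⁻¹ᵁ U)) (v : Pt B.V)
    (h : ⊤ ≤ v.left ⁻¹ᵁ (B.π.left ⁻¹ᵁ U)) (h' : base v ∈ B.π.left ⁻¹ᵁ U) :
    (Scheme.ΓSpecIso (CommRingCat.of k)).hom (HMNum.evalFn B.π y v h) = val y v h' := rfl

theorem val_top {Z : Over (Spec (CommRingCat.of k))} (s : Γ(Z.left, ⊤)) (p : Pt Z) :
    val (U := ⊤) s p trivial = (Scheme.ΓSpecIso (CommRingCat.of k)).hom (p.left.appTop s) := by
  rw [val, appLE_top]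

variable [IsMonHom l]

theorem gp_mul_comp (z w : kˣ) : gp (z * w) ≫ l = (gp z ≫ l) * (gp w ≫ l) := by rw [gp_mul, MonObj.mul_comp]

theorem gp_one_comp : gp (1 : kˣ) ≫ l = 1 := by rw [gp_one, MonObj.one_comp]

theorem lift_gp_one (v : Pt B.V) : lift (gp (1 : kˣ) ≫ l) v ≫ B.lift.act = v :=
  (congrArg (fun g => lift g v ≫ B.lift.act) gp_one_comp).trans (one_act _ _)

theorem lift_gp_mul (z w : kˣ) (v : Pt B.V) : lift (gp (z * w) ≫ l) v ≫ B.lift.act =
    lift (gp z ≫ l) (lift (gp w ≫ l) v ≫ B.lift.act) ≫ B.lift.act :=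
  (congrArg (fun g => lift g v ≫ B.lift.act) (gp_mul_comp z w)).trans (act_act _ _ _ _).symm

theorem val_congr' {Z : Over (Spec (CommRingCat.of k))} {U : Z.left.Opens} (s : Γ(Z.left, U)) {p q : Pt Z} (e : p = q)
    (h : base p ∈ U) (h' : base q ∈ U) : val s p h = val s q h' := by subst e; rfl

/-- A multiplicative function on the multiplicative group is a monomial. -/
theorem eq_mon_of_mul [Infinite k] (C : Γ((Gm' k).left, ⊤))
    (h1 : val (Z := Gm' k) (U := ⊤) C (gp (1 : kˣ)) trivial = 1)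
    (hmul : ∀ z w : kˣ, val (Z := Gm' k) (U := ⊤) C (gp (z * w)) trivial =
      val (Z := Gm' k) (U := ⊤) C (gp z) trivial * val (Z := Gm' k) (U := ⊤) C (gp w) trivial) :
    ∃ e : ℤ, C = mon (M := ℤ) e := by
  obtain ⟨cs, hcs⟩ := exists_laurent C
  let F : k → k := fun z => cs.sum fun d c => c * z ^ d
  have hF : ∀ z : kˣ, val (Z := Gm' k) (U := ⊤) C (gp z) trivial = F z := hcs
  have hF1 : F 1 = 1 := by rw [← Units.val_one (α := k), ← hF, h1]; simp
  have hm : ∀ z w, z ≠ 0 → w ≠ 0 → F (z * w) = F z * F w := by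
    intro z w hz hw
    have h := hmul (Units.mk0 z hz) (Units.mk0 w hw)
    rw [hF, hF, hF] at h
    exact h
  obtain ⟨e, he⟩ := exists_eq_zpow (fun z _ => rfl) hm hF1
  exact ⟨e, gm_fn_ext fun z => (hF z).trans ((he _ z.ne_zero).trans (val_mon_gp z e).symm)⟩

theorem fixed_over {x₀ : Pt X} (hfix : HMNum.IsFixedBy a l x₀) (z : kˣ) {v : Pt B.V} (hv : v ≫ B.π = x₀) :
    (lift (gp z ≫ l) v ≫ B.lift.act) ≫ B.π = x₀ := by
  rw [act_π, hv]
  simpa only [Category.id_comp] using hfix _ (𝟙 _) (gp z)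

theorem base_mem {U : X.left.Opens} {x₀ : Pt X} (hU : x₀.left ⁻¹ᵁ U = ⊤) {v : Pt B.V} (hv : v ≫ B.π = x₀) :
    base v ∈ B.π.left ⁻¹ᵁ U := by
  show B.π.left (base v) ∈ U
  rw [base_π hv]; exact mem_top hU

set_option maxHeartbeats 400000 in
/-- The fibre at a fixed point has a weight. -/
theorem exists_fibreWeight [Infinite k] {x₀ : Pt X} (hfix : HMNum.IsFixedBy a l x₀) :
    ∃ e : ℤ, HMNum.HasFibreWeight B l x₀ e := by
  obtain ⟨v₀, hv₀, hnz⟩ := exists_nz (B := B) x₀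
  obtain ⟨U, hU', y, hy⟩ := B.atlas.cover (base x₀)
  have hU : x₀.left ⁻¹ᵁ U = ⊤ := top_le_iff.1 (top_le_pre hU')
  obtain ⟨C, hC⟩ := eval_scale hy hU hfix
  have key : ∀ (z : kˣ) (v : Pt B.V) (hv : v ≫ B.π = x₀),
      val y (lift (gp z ≫ l) v ≫ B.lift.act) (base_mem hU (fixed_over hfix z hv)) =
        val (Z := Gm' k) (U := ⊤) C (gp z) trivial * val y v (base_mem hU hv) := by
    intro z v hv
    have h1 := hC _ (𝟙 _) (gp z) v (hv.trans (Category.id_comp _).symm)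
      ((fixed_over hfix z hv).trans (Category.id_comp _).symm)
    have h2 := congrArg (Scheme.ΓSpecIso (CommRingCat.of k)).hom h1
    rw [map_mul, evalFn_val _ _ _ (base_mem hU (fixed_over hfix z hv)), evalFn_val _ _ _ (base_mem hU hv),
      ← val_top] at h2
    exact h2
  have hy0 := hnz U y hy (base_mem hU hv₀)
  obtain ⟨e, hCe⟩ := eq_mon_of_mul C (by
    have h1 := key 1 v₀ hv₀
    rw [val_congr (lift_gp_one v₀)] at h1
    exact mul_left_injective₀ hy0 (h1.symm.trans (_root_.one_mul _).symm)) (fun z w => by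
    have e1 := key z _ (fixed_over hfix w hv₀)
    have e2 := key w v₀ hv₀
    have e0 := key (z * w) v₀ hv₀
    have e3 := val_congr' y (lift_gp_mul z w v₀) (base_mem hU (fixed_over hfix (z * w) hv₀))
      (base_mem hU (fixed_over hfix z (fixed_over hfix w hv₀)))
    exact mul_left_injective₀ hy0
      ((e0.symm.trans (e3.trans (e1.trans (congrArg _ e2)))).trans (_root_.mul_assoc _ _ _).symm))
  refine ⟨e, hfix, U, y, hy, hU, fun T t u v hv huv => ?_⟩
  rw [hC T t u v hv huv, hCe, mon_eq_tPow]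

/-- The orbit map extended to the line. -/
theorem attr_incl {x : Pt X} (φ : (HMNum.attrPlus a l).obj (op (𝟙_ _)))
    (hx : (Magnet.attrToX (HMNum.gmAct a l) HMNum.plus).app (op (𝟙_ _)) φ = x) :
    HMNum.incl _ ≫ (ρ_ _).inv ≫ φ.1 = lift l (toUnit _ ≫ x) ≫ a.act := by
  have h1 := attr_eq φ (𝟙 (Red.Gm (Spec (CommRingCat.of k))))
    (toUnit _ ≫ η[HMNum.A1 (Spec (CommRingCat.of k))]) (toUnit _)
  have h2 : lift (𝟙 (Red.Gm (Spec (CommRingCat.of k)))) (toUnit _ ≫ η[HMNum.A1 (Spec (CommRingCat.of k))]) ≫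
      (Magnet.subAct _ ℤ HMNum.plus).act = HMNum.incl _ :=
    (lift_one_restrict (Magnet.AMonS.map _ HMNum.plus.subtype) (𝟙 _)).trans (Category.id_comp _)
  rw [Category.id_comp, h2] at h1
  rw [← Category.assoc, show HMNum.incl (Spec (CommRingCat.of k)) ≫ (ρ_ _).inv =
    lift (HMNum.incl _) (toUnit _) by
      apply CartesianMonoidalCategory.hom_ext
      · rw [Category.assoc, rightUnitor_inv_fst, Category.comp_id, lift_fst]
      · exact toUnit_unique _ _, h1]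
  congr 2
  rw [← hx, Magnet.MonAct.eqvHom.evalAt_app, comp_lift_assoc, Category.comp_id]
  rw [← Category.assoc, toUnit_unique (toUnit (Red.Gm _) ≫ toUnit _) (toUnit (Red.Gm _))]

/-- The orbit map extended to the line, at the rational points. -/
theorem exists_orbit {x y : Pt X} (h : HMNum.IsLimitPt a l x y) :
    ∃ φ' : A1' k ⟶ X, (∀ z : kˣ, ap (z : k) ≫ φ' = lift (gp z ≫ l) x ≫ a.act) ∧ ap 0 ≫ φ' = y := by
  obtain ⟨φ, hφx, hφy⟩ := h
  refine ⟨(ρ_ _).inv ≫ φ.1, fun z => ?_, ?_⟩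
  · rw [← gp_incl, Category.assoc, attr_incl φ hφx, comp_lift_assoc, ← Category.assoc,
      toUnit_unique (gp z ≫ toUnit _) (𝟙 _), Category.id_comp]
  · rw [← hφy, HMNum.limitPt_eq, origin_eq, ← Category.assoc]
    congr 1
    apply CartesianMonoidalCategory.hom_ext
    · rw [Category.assoc, rightUnitor_inv_fst, Category.comp_id, lift_fst, toUnit_unique (toUnit _) (𝟙 _),
        Category.id_comp]
    · exact toUnit_unique _ _

/-- Scaling of a coordinate by a fixed element along a curve through a fixed point. -/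
theorem exists_scale_curve {U : X.left.Opens} {yy : Γ(B.V.left, B.π.left ⁻¹ᵁ U)} (hyy : yy ∈ B.atlas.chart U)
    (φ' : A1' k ⟶ X) {y : Pt X} (h0 : ap 0 ≫ φ' = y) (hU : base y ∈ U) {c : Pt G}
    (hy1 : lift c y ≫ a.act = y) {w : k}
    (hw : ∀ (v : Pt B.V), v ≫ B.π = y → ∀ (h : base v ∈ B.π.left ⁻¹ᵁ U)
      (h' : base (lift c v ≫ B.lift.act) ∈ B.π.left ⁻¹ᵁ U), val yy (lift c v ≫ B.lift.act) h' = w * val yy v h) :
    ∃ K : k → k, Reg0 K w ∧ ∀ (z : k) (v : Pt B.V), v ≫ B.π = ap z ≫ φ' →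
      ∀ (h : base v ∈ B.π.left ⁻¹ᵁ U) (h' : base (lift c v ≫ B.lift.act) ∈ B.π.left ⁻¹ᵁ U),
        val yy (lift c v ≫ B.lift.act) h' = K z * val yy v h := by
  classical
  obtain ⟨cc, hcc⟩ := exists_val_scale hyy hyy
  let ψ : A1' k ⟶ G ⊗ X := lift (toUnit _ ≫ c) φ'
  have hψ : ∀ p : Pt (A1' k), p ≫ ψ = lift c (p ≫ φ') := fun p => by
    rw [comp_lift, ← Category.assoc, toUnit_unique (p ≫ toUnit _) (𝟙 _), Category.id_comp]
  let O : (A1' k).left.Opens := ψ.left ⁻¹ᵁ (a.act.left ⁻¹ᵁ U ⊓ (snd G X).left ⁻¹ᵁ U)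
  have hc0 : base (ap (0 : k)) ∈ O := by
    show ψ.left (base (ap 0)) ∈ a.act.left ⁻¹ᵁ U ⊓ (snd G X).left ⁻¹ᵁ U
    rw [← base_comp, hψ, h0]
    exact mem_scale hU (by rw [hy1]; exact hU)
  let g := ψ.left.app _ cc
  let K : k → k := fun z => if h : base (ap z) ∈ O then val g (ap z) h else 0
  have key : ∀ (z : k) (v : Pt B.V), v ≫ B.π = ap z ≫ φ' →
      ∀ (h : base v ∈ B.π.left ⁻¹ᵁ U) (h' : base (lift c v ≫ B.lift.act) ∈ B.π.left ⁻¹ᵁ U),
        ∃ hz : base (ap z) ∈ O, val yy (lift c v ≫ B.lift.act) h' = val g (ap z) hz * val yy v h := by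
    intro z v hv h h'
    have hm : base (lift c (v ≫ B.π)) ∈ a.act.left ⁻¹ᵁ U ⊓ (snd G X).left ⁻¹ᵁ U :=
      mem_scale (by rw [base_comp]; exact h) (by rw [← act_π, base_comp]; exact h')
    have hz : base (ap z) ∈ O := by
      show ψ.left (base (ap z)) ∈ a.act.left ⁻¹ᵁ U ⊓ (snd G X).left ⁻¹ᵁ U
      rw [← base_comp, hψ, ← hv]; exact hm
    refine ⟨hz, (hcc c v h' h hm).trans ?_⟩
    rw [val_app, val_congr' cc (show ap z ≫ ψ = lift c (v ≫ B.π) by rw [hψ, hv]) _ hm]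
  refine ⟨K, ?_, fun z v hv h h' => ?_⟩
  · have h1 := (exists_reg0 hc0 g).2 K fun z h => dif_pos h
    obtain ⟨w₀, hw₀, hnz⟩ := exists_nz (B := B) y
    have hw1 : base w₀ ∈ B.π.left ⁻¹ᵁ U := by
      show B.π.left (base w₀) ∈ U
      rw [base_π hw₀]; exact hU
    have hw2 : base (lift c w₀ ≫ B.lift.act) ∈ B.π.left ⁻¹ᵁ U := by
      show B.π.left (base _) ∈ U
      rw [base_π (act_π c w₀), hw₀, hy1]; exact hU
    obtain ⟨hz, h2⟩ := key 0 w₀ (by rw [hw₀, h0]) hw1 hw2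
    rw [hw w₀ hw₀ hw1 hw2] at h2
    rw [mul_left_injective₀ (hnz U yy hyy hw1) h2]
    exact h1
  · obtain ⟨hz, h2⟩ := key z v hv h h'
    rw [h2]
    simp only [K, dif_pos hz]

set_option maxHeartbeats 400000 in
/-- Orders of the weight functions along an orbit. -/
theorem core_iff [Infinite k] {x : Pt X} {m : ℤ} (hm : HMNum.IsMu B l x m) :
    ∃ y : Pt X, HMNum.IsLimitPt a l x y ∧ HMNum.IsFixedBy a l y ∧ ∀ (n : ℕ) (f : Γ(B.V.left, ⊤)),
      GLinSh.HasWeight B.atlas.chart n f → ∀ v : Pt B.V, v ≫ B.π = x → Nz B v → ∀ as : ℤ →₀ k,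
        (∀ z : kˣ, val (U := ⊤) f (lift (gp z ≫ l) v ≫ B.lift.act) trivial = as.sum fun d c => c * (z : k) ^ d) →
        (∀ d < -((n : ℤ) * m), as d = 0) ∧
          (base y ∈ GLinSh.nonvanishing B.π f ↔ as (-((n : ℤ) * m)) ≠ 0) := by
  classical
  obtain ⟨y₁, hlim, hfix, U, yy, hyy, hU, hwt⟩ := hm
  refine ⟨y₁, hlim, hfix, fun n f hf v hv hnz as has => ?_⟩
  obtain ⟨φ', horb, h0⟩ := exists_orbit hlim
  have hyU : base y₁ ∈ U := mem_top hU
  have hU0 : base (ap (0 : k)) ∈ φ'.left ⁻¹ᵁ U := by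
    show φ'.left (base (ap 0)) ∈ U
    rw [← base_comp, h0]; exact hyU
  let vz : kˣ → Pt B.V := fun z => lift (gp z ≫ l) v ≫ B.lift.act
  have hvz : ∀ z : kˣ, vz z ≫ B.π = ap (z : k) ≫ φ' := fun z => by rw [act_π, hv, horb]
  have hqU : ∀ z : kˣ, base (ap (z : k)) ∈ φ'.left ⁻¹ᵁ U → base (vz z) ∈ B.π.left ⁻¹ᵁ U := fun z hz => by
    show B.π.left (base (vz z)) ∈ U
    rw [base_π (hvz z), base_comp]; exact hz
  let P : k → k := fun z => if h : ∃ hz : z ≠ 0, base (vz (Units.mk0 z hz)) ∈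
    B.π.left ⁻¹ᵁ U then val yy _ h.2 else 0
  have hP : ∀ (z : kˣ) (h : base (vz z) ∈ B.π.left ⁻¹ᵁ U), P z = val yy (vz z) h := fun z h => by
    have h' : ∃ hz : (z : k) ≠ 0, base (vz (Units.mk0 (z : k) hz)) ∈ B.π.left ⁻¹ᵁ U :=
      ⟨z.ne_zero, by rw [Units.mk0_val]; exact h⟩
    simp only [P, dif_pos h']
    exact val_congr' _ (by rw [Units.mk0_val]) _ _
  have hev : ∀ᶠ z in cofinite, ∃ hz : z ≠ 0, base (ap z) ∈ φ'.left ⁻¹ᵁ U :=
    ((exists_reg0 hU0 0).1.and eventually_ne_zero).mono fun z hz => ⟨hz.2, hz.1⟩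
  obtain ⟨z₀, hz₀, hz₀U⟩ := hev.exists
  have hPne : ∀ᶠ z in cofinite, P z ≠ 0 := hev.mono fun z ⟨hz, hzU⟩ => by
    rw [← Units.val_mk0 hz, hP _ (hqU (Units.mk0 z hz) hzU)]
    exact (hnz.translate _) U yy hyy _
  -- the coordinate along the orbit
  let q : Gm' k ⟶ B.V := lift l (toUnit _ ≫ v) ≫ B.lift.act
  have hq : ∀ z : kˣ, gp z ≫ q = vz z := fun z => by
    rw [comp_lift_assoc, ← Category.assoc, toUnit_unique (gp z ≫ toUnit _) (𝟙 _), Category.id_comp]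
  have hz₀O : base (gp (Units.mk0 z₀ hz₀)) ∈ q.left ⁻¹ᵁ (B.π.left ⁻¹ᵁ U) := by
    show q.left (base (gp (Units.mk0 z₀ hz₀))) ∈ B.π.left ⁻¹ᵁ U
    rw [← base_comp, hq]; exact hqU (Units.mk0 z₀ hz₀) hz₀U
  obtain ⟨-, e, R, r, hr, hR, hPR⟩ := exists_order (q.left.app (B.π.left ⁻¹ᵁ U) yy) hz₀O (G := P)
    (fun z h => by
      have h' : base (vz z) ∈ B.π.left ⁻¹ᵁ U := by rw [← hq, base_comp]; exact h
      exact (hP z h').trans ((val_app q yy (gp z) h).trans (val_congr' yy (hq z) _ h')).symm) hPne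
  -- the exponent
  have hexp : ∀ c : kˣ, (c : k) ^ e = (c : k) ^ (-m) := fun c => by
    have hy1 : lift (gp c ≫ l) y₁ ≫ a.act = y₁ := by
      simpa only [Category.id_comp] using hfix _ (𝟙 _) (gp c)
    obtain ⟨K, hK, hKe⟩ := exists_scale_curve hyy φ' h0 hyU hy1 (w := (c : k) ^ (-m))
      fun w hw hw1 hw2 => by
        have h2 := congrArg (Scheme.ΓSpecIso (CommRingCat.of k)).hom
          (hwt _ (𝟙 _) (gp c) w (hw.trans (Category.id_comp _).symm)
            (by rw [act_π, hw, hy1, Category.id_comp]))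
        rw [map_mul, evalFn_val _ _ _ hw2, evalFn_val _ _ _ hw1, ← mon_eq_tPow, ← val_top, val_mon_gp] at h2
        exact h2
    refine zpow_eq_of_scale hr hR c.ne_zero hK ?_
    have hinj : Function.Injective fun z : k => (c : k) * z := mul_right_injective₀ c.ne_zero
    filter_upwards [hev, hinj.tendsto_cofinite.eventually hev, hPR, hinj.tendsto_cofinite.eventually hPR]
      with z ⟨hz, hzU⟩ ⟨hcz, hczU⟩ hz1 hz2
    rw [← hz1, ← hz2]
    have e1 : lift (gp c ≫ l) (vz (Units.mk0 z hz)) ≫ B.lift.act = vz (c * Units.mk0 z hz) := by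
      exact (lift_gp_mul _ _ _).symm
    have hczU' : base (vz (c * Units.mk0 z hz)) ∈ B.π.left ⁻¹ᵁ U := hqU (c * Units.mk0 z hz) (by simpa using hczU)
    have h1 := hKe z (vz (Units.mk0 z hz)) (hvz (Units.mk0 z hz)) (hqU (Units.mk0 z hz) hzU) (by rw [e1]; exact hczU')
    have h2 := (val_congr' yy e1 (by rw [e1]; exact hczU') hczU').symm.trans h1
    rw [← hP, ← hP] at h2
    simpa only [Units.val_mul, Units.val_mk0] using h2
  have hem : e = -m := exponent_ext fun c hc => hexp (Units.mk0 c hc)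
  -- the weight function
  obtain ⟨cf, hcf⟩ := hf U yy hyy
  let Cf : k → k := fun z => if h : base (ap z) ∈ φ'.left ⁻¹ᵁ U then val (φ'.left.app U cf) (ap z) h else 0
  have hC' := (exists_reg0 hU0 (φ'.left.app U cf)).2 Cf fun z h => dif_pos h
  have hfin : ∀ᶠ z in cofinite, (as.sum fun d c => c * z ^ d) = z ^ (-((n : ℤ) * m)) * (Cf z * R z ^ n) := by
    filter_upwards [hev, hPR] with z ⟨hz, hzU⟩ hz1
    have h1 := val_weight hcf (vz (Units.mk0 z hz)) (hqU (Units.mk0 z hz) hzU)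
    rw [has, ← hP, Units.val_mk0] at h1
    rw [h1, hz1, mul_pow, ← zpow_natCast (z ^ e), ← zpow_mul,
      show -((n : ℤ) * m) = e * n by rw [hem]; ring]
    simp only [Cf, dif_pos hzU]
    have hm' : base (vz (Units.mk0 z hz) ≫ B.π) ∈ U := by rw [base_comp]; exact hqU (Units.mk0 z hz) hzU
    rw [val_app, val_congr' cf (show ap z ≫ φ' = vz (Units.mk0 z hz) ≫ B.π by rw [hvz, Units.val_mk0]) _ hm']
    ring
  obtain ⟨hlow, htop⟩ := laurent_coeff_eq (hC'.mul (hR.pow n)) hfin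
  refine ⟨hlow, fun hy1 => ?_, fun hne => ?_⟩
  · rw [htop]
    refine mul_ne_zero ?_ (pow_ne_zero _ hr)
    rw [val_ne_zero_iff, ← Scheme.preimage_basicOpen]
    show φ'.left (base (ap 0)) ∈ X.left.basicOpen cf
    rw [← base_comp, h0]
    obtain ⟨w, hw, hwy⟩ := hy1
    have hwy' : B.π.left w = base y₁ := hwy
    have hwf : w ∈ B.V.left.basicOpen (GLinSh.resTop B.π U f) := by
      rw [GLinSh.resTop, Scheme.basicOpen_res]
      exact ⟨show B.π.left w ∈ U by rw [hwy']; exact hyU, hw⟩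
    rw [hcf, Scheme.basicOpen_mul, ← Scheme.preimage_basicOpen] at hwf
    rw [← hwy']
    exact hwf.1
  · rw [htop, mul_ne_zero_iff, val_ne_zero_iff, ← Scheme.preimage_basicOpen] at hne
    have hm : base y₁ ∈ X.left.basicOpen cf := by
      rw [← h0, base_comp]; exact hne.1
    obtain ⟨W, y, hxW, hWU, hy⟩ := GITss.exists_triv B (x := base y₁) (O := U) hyU
    obtain ⟨c, hc⟩ := hy.exists_coeff hf
    have rm : ∀ {U W : X.left.Opens} (h : W ≤ U) (s t : Γ(B.V.left, B.π.left ⁻¹ᵁ U)),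
        GLinSh.res B.π h (s * t) = GLinSh.res B.π h s * GLinSh.res B.π h t := fun h s t => map_mul _ s t
    refine (hy.mem_nonvanishing hc hxW).2 ?_
    obtain ⟨U₀, hU₀, y₀, hy₀, hres⟩ := hy.ex
    obtain ⟨u, hu, hu'⟩ := B.atlas.linear U U₀ yy y₀ hyy hy₀
    have h1 : GLinSh.resTop B.π W f = B.π.left.app W (X.left.presheaf.map (homOfLE hWU).op cf) *
        GLinSh.res B.π hWU yy ^ n := by
      rw [← GITss.res_resTop hWU f, hcf, rm, GITss.res_app]
      exact congrArg _ (map_pow (B.V.left.presheaf.map _).hom _ _)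
    have h2 : y = B.π.left.app W (X.left.presheaf.map (homOfLE (le_inf hWU hU₀)).op u) *
        GLinSh.res B.π hWU yy := by
      have := congrArg (GLinSh.res B.π (le_inf hWU hU₀)) hu'
      rw [rm, GITss.res_app, GITss.res_res, GITss.res_res] at this
      rw [← hres, ← this]
    rw [h2, mul_pow, ← map_pow, ← _root_.mul_assoc, ← map_mul, h1] at hc
    have hyyT : GITss.IsTriv B W (GLinSh.res B.π hWU yy) := ⟨hy.affine, U, hWU, yy, hyy, rfl⟩
    have h3 := hyyT.coeff_ext n hc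
    have h4 : base y₁ ∈ X.left.basicOpen (X.left.presheaf.map (homOfLE hWU).op cf) := by
      rw [Scheme.basicOpen_res]; exact ⟨hxW, hm⟩
    rw [h3, Scheme.basicOpen_mul] at h4
    exact h4.1

/-- Orders of the weight functions along an orbit. -/
theorem core [Infinite k] {x : Pt X} {m : ℤ} (hm : HMNum.IsMu B l x m) :
    ∃ y : Pt X, HMNum.IsLimitPt a l x y ∧ ∀ (n : ℕ) (f : Γ(B.V.left, ⊤)),
      GLinSh.HasWeight B.atlas.chart n f → ∀ v : Pt B.V, v ≫ B.π = x → Nz B v → ∀ as : ℤ →₀ k,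
        (∀ z : kˣ, val (U := ⊤) f (lift (gp z ≫ l) v ≫ B.lift.act) trivial = as.sum fun d c => c * (z : k) ^ d) →
        (∀ d < -((n : ℤ) * m), as d = 0) ∧
          (base y ∈ GLinSh.nonvanishing B.π f → as (-((n : ℤ) * m)) ≠ 0) := by
  obtain ⟨y, hy, -, h⟩ := core_iff hm
  exact ⟨y, hy, fun n f hf v hv hnz as has => ⟨(h n f hf v hv hnz as has).1, (h n f hf v hv hnz as has).2.1⟩⟩

end Groth.Agent.HMu
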