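import Groth.Agent.HMu.Torus
import Groth.Agent.Chev.CharQuot
import Groth.Agent.MTQuot.Diag
import Mathlib.LinearAlgebra.Matrix.ToLin
import Mathlib.LinearAlgebra.FiniteDimensional.Basic

/-!
# Additive functions of one-parameter subgroups are bounded by a positive definite form
-/

set_option autoImplicit false
set_option backward.isDefEq.respectTransparency false
set_option linter.style.haveILetI false

universe u

open CategoryTheory CategoryTheory.Limits MonoidalCategory CartesianMonoidalCategory MonObj AlgebraicGeometry Opposite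
open scoped Matrix

noncomputable section

namespace Groth.Agent.HMu

theorem exists_int_vec {r : ℕ} (v : Fin r → ℚ) :
    ∃ (D : ℤ) (w : Fin r → ℤ), 0 < D ∧ ∀ i, (w i : ℚ) = (D : ℚ) * v i := by
  refine ⟨∏ i, ((v i).den : ℤ), fun i => (v i).num * ∏ j ∈ Finset.univ.erase i, ((v j).den : ℤ),
    Finset.prod_pos fun i _ => by exact_mod_cast (v i).den_pos, fun i => ?_⟩
  rw [← Finset.mul_prod_erase Finset.univ _ (Finset.mem_univ i)]
  push_cast
  conv_rhs => rw [mul_comm ((v i).den : ℚ), _root_.mul_assoc, mul_comm ((v i).den : ℚ), Rat.mul_den_eq_num]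
  ring

/-- A positive definite rational form on a lattice bounds the additive functions. -/
theorem exists_bound_of_posdef {r : ℕ} (b : (Fin r → ℤ) → (Fin r → ℤ) → ℚ)
    (hadd : ∀ u v w, b (u + v) w = b u w + b v w) (hsymm : ∀ u v, b u v = b v u) (hpos : ∀ v, v ≠ 0 → 0 < b v v)
    (f : (Fin r → ℤ) → ℚ) (hf : ∀ u v, f (u + v) = f u + f v) : ∃ C : ℚ, 0 ≤ C ∧ ∀ v, f v ^ 2 ≤ C * b v v := by
  classical
  let e : Fin r → (Fin r → ℤ) := fun i => Pi.single i 1
  have hlin : ∀ (g : (Fin r → ℤ) → ℚ), (∀ u v, g (u + v) = g u + g v) →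
      ∀ v, g v = ∑ i, (v i : ℚ) * g (e i) := by
    intro g hg v
    let g' : (Fin r → ℤ) →+ ℚ := AddMonoidHom.mk' g hg
    conv_lhs => rw [show g v = g' v from rfl, ← Finset.univ_sum_single v, map_sum]
    refine Finset.sum_congr rfl fun i _ => ?_
    rw [show Pi.single i (v i) = v i • e i by rw [← Pi.single_smul, smul_eq_mul, _root_.mul_one], map_zsmul,
      zsmul_eq_mul]
    rfl
  let M : Matrix (Fin r) (Fin r) ℚ := fun i j => b (e i) (e j)
  have hbM : ∀ u v, b u v = (fun i => (u i : ℚ)) ⬝ᵥ M *ᵥ (fun j => (v j : ℚ)) := fun u v => by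
    rw [hlin (fun u => b u v) (fun x y => hadd x y v) u]
    refine Finset.sum_congr rfl fun i _ => congrArg _ ?_
    rw [hsymm, hlin (fun w => b w (e i)) (fun x y => hadd x y _) v]
    refine Finset.sum_congr rfl fun j _ => ?_
    rw [hsymm (e j)]; exact mul_comm _ _
  have hM : ∀ x : Fin r → ℚ, x ≠ 0 → 0 < x ⬝ᵥ M *ᵥ x := fun x hx => by
    obtain ⟨D, w, hD, hw⟩ := exists_int_vec x
    have hDq : (0 : ℚ) < D := by exact_mod_cast hD
    have hw' : (fun i => (w i : ℚ)) = (D : ℚ) • x := funext fun i => hw i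
    have h0 : w ≠ 0 := fun h => hx <| funext fun i => by
      have := hw i
      rw [h] at this
      simpa [hDq.ne'] using this.symm
    have h := hpos w h0
    rw [hbM, hw', Matrix.mulVec_smul, dotProduct_smul, smul_dotProduct, smul_eq_mul, smul_eq_mul,
      ← _root_.mul_assoc] at h
    exact (pos_iff_pos_of_mul_pos h).1 (mul_pos hDq hDq)
  have hinj : Function.Injective (Matrix.mulVecLin M) := (injective_iff_map_eq_zero _).2 fun x hx => by
    by_contra hne
    have := hM x hne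
    rw [Matrix.mulVecLin_apply] at hx
    rw [hx, dotProduct_zero] at this
    exact lt_irrefl _ this
  obtain ⟨q, hq⟩ := (LinearMap.injective_iff_surjective (f := Matrix.mulVecLin M)).1 hinj fun i => f (e i)
  rw [Matrix.mulVecLin_apply] at hq
  let Q := q ⬝ᵥ M *ᵥ q
  have hfv : ∀ v, f v = (fun i => (v i : ℚ)) ⬝ᵥ M *ᵥ q := fun v => by rw [hq, hlin f hf]; rfl
  have hnn : ∀ x : Fin r → ℚ, 0 ≤ x ⬝ᵥ M *ᵥ x := fun x => by
    by_cases hx : x = 0
    · simp [hx]
    · exact (hM x hx).le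
  refine ⟨Q, hnn q, fun v => ?_⟩
  by_cases hq0 : q = 0
  · rw [hfv, hbM]
    simp [Q, hq0]
  let x : Fin r → ℚ := fun i => (v i : ℚ)
  have hsM : q ⬝ᵥ M *ᵥ x = x ⬝ᵥ M *ᵥ q := by
    have hT : Mᵀ = M := by ext i j; exact hsymm _ _
    conv_rhs => rw [← hT, Matrix.mulVec_transpose, dotProduct_comm, ← Matrix.dotProduct_mulVec]
  have hQ : 0 < Q := hM q hq0
  have h := hnn (Q • x - (x ⬝ᵥ M *ᵥ q) • q)
  simp only [Matrix.mulVec_sub, Matrix.mulVec_smul, sub_dotProduct, dotProduct_sub, smul_dotProduct,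
    dotProduct_smul, smul_eq_mul, hsM] at h
  have h2 : 0 ≤ Q * (Q * (x ⬝ᵥ M *ᵥ x) - (x ⬝ᵥ M *ᵥ q) ^ 2) := by
    refine le_of_le_of_eq h ?_
    simp only [Q]; ring
  rw [hfv, hbM]
  exact sub_nonneg.1 ((mul_nonneg_iff_of_pos_left hQ).1 h2)

variable {k : Type u} [Field k] [IsAlgClosed k] {T : Over (Spec (CommRingCat.of k))} [GrpObj T]

/-- An additive function of one-parameter subgroups of a torus is bounded by a positive definite form. -/
theorem exists_bound (hT : Red.IsTorus T)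
    (b : (Red.Gm (Spec (CommRingCat.of k)) ⟶ T) → (Red.Gm (Spec (CommRingCat.of k)) ⟶ T) → ℚ)
    (hb_add : ∀ (l₁ l₂ l₃ : Red.Gm (Spec (CommRingCat.of k)) ⟶ T) [IsMonHom l₁] [IsMonHom l₂] [IsMonHom l₃],
      b (l₁ * l₂) l₃ = b l₁ l₃ + b l₂ l₃)
    (hb_symm : ∀ (l₁ l₂ : Red.Gm (Spec (CommRingCat.of k)) ⟶ T) [IsMonHom l₁] [IsMonHom l₂], b l₁ l₂ = b l₂ l₁)
    (hb_pos : ∀ (l : Red.Gm (Spec (CommRingCat.of k)) ⟶ T) [IsMonHom l], l ≠ 1 → 0 < b l l)
    (ℓ : (Red.Gm (Spec (CommRingCat.of k)) ⟶ T) → ℚ)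
    (hℓ : ∀ (l₁ l₂ : Red.Gm (Spec (CommRingCat.of k)) ⟶ T) [IsMonHom l₁] [IsMonHom l₂], ℓ (l₁ * l₂) = ℓ l₁ + ℓ l₂) :
    ∃ C : ℚ, 0 ≤ C ∧ ∀ (l : Red.Gm (Spec (CommRingCat.of k)) ⟶ T) [IsMonHom l], ℓ l ^ 2 ≤ C * b l l := by
  obtain ⟨r, ⟨e⟩⟩ := Chev.exists_split_algClosed hT
  haveI : IsMonHom e.hom.hom.hom := e.hom.hom.isMonHom_hom
  haveI : IsMonHom e.inv.hom.hom := e.inv.hom.isMonHom_hom
  let π : T ⟶ D' k r := e.hom.hom.hom
  let σT : D' k r ⟶ T := e.inv.hom.hom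
  haveI : IsMonHom π := ‹IsMonHom e.hom.hom.hom›
  haveI : IsMonHom σT := ‹IsMonHom e.inv.hom.hom›
  have hπσ : π ≫ σT = 𝟙 T := ((Grp.forget _).mapIso e).hom_inv_id
  have hσπ : σT ≫ π = 𝟙 _ := ((Grp.forget _).mapIso e).inv_hom_id
  -- one-parameter subgroups from exponents
  let θ : (Fin r → ℤ) →+ ((Fin r → ℤ) →+ ℤ) := AddMonoidHom.mk'
    (fun v => AddMonoidHom.mk' (fun x => ∑ i, v i * x i) fun x y => by
      simp only [Pi.add_apply, mul_add, Finset.sum_add_distrib])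
    (fun v w => by ext x; simp [add_mul, Finset.sum_add_distrib])
  let Φ : (Fin r → ℤ) → (Red.Gm (Spec (CommRingCat.of k)) ⟶ T) := fun v => Red.DSmap _ (θ v) ≫ σT
  have hΦhom : ∀ v, IsMonHom (Φ v) := fun v => by
    haveI : IsMonHom (Red.DSmap (Spec (CommRingCat.of k)) (θ v)) := MTQuot.isMonHom_DSmap _
    infer_instance
  have hΦadd : ∀ v w, Φ (v + w) = Φ v * Φ w := fun v w => by
    show Red.DSmap _ (θ (v + w)) ≫ σT = (Red.DSmap _ (θ v) ≫ σT) * (Red.DSmap _ (θ w) ≫ σT)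
    rw [← MonObj.mul_comp]
    congr 1
    refine HomDiag.ch_ext fun m => ?_
    rw [HomDiag.ch_mul, ← Category.id_comp (Red.DSmap _ (θ (v + w))), ← Category.id_comp (Red.DSmap _ (θ v)),
      ← Category.id_comp (Red.DSmap _ (θ w)), HomDiag.ch_DSmap, HomDiag.ch_DSmap, HomDiag.ch_DSmap, ← map_mul,
      ← ofAdd_add, map_add, AddMonoidHom.add_apply]
  have hΦne : ∀ v, v ≠ 0 → Φ v ≠ 1 := fun v hv h1 => hv <| by
    have h2 : Red.DSmap (Spec (CommRingCat.of k)) (θ v) = (1 : Gm' k ⟶ D' k r) := by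
      have h3 := congrArg (fun q => q ≫ π) h1
      simp only [Φ, Category.assoc, hσπ, Category.comp_id, MonObj.one_comp] at h3
      exact h3
    funext i
    refine exponent_ext (k := k) fun c hc => ?_
    have h4 : val (Z := D' k r) (mon (Pi.single i (1 : ℤ) : Fin r → ℤ)) (gp (Units.mk0 c hc) ≫ Red.DSmap _ (θ v))
        trivial = c ^ (v i) := by
      rw [val_mon_eq_ch, HomDiag.ch_DSmap, toAdd_ofAdd,
        show (θ v) (Pi.single i 1) = v i by
          show ∑ j, v j * (Pi.single i (1 : ℤ) : Fin r → ℤ) j = v i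
          simp [Pi.single_apply]]
      exact (val_mon_eq_ch (M := ℤ) (gp (Units.mk0 c hc)) (v i)).symm.trans (val_mon_gp _ _)
    rw [val_congr_top _ (show gp (Units.mk0 c hc) ≫ Red.DSmap _ (θ v) = (1 : Pt (D' k r)) by
      rw [h2, MonObj.comp_one]), chr_one] at h4
    rw [← h4, Pi.zero_apply, zpow_zero]
  haveI : ∀ v, IsMonHom (Φ v) := hΦhom
  obtain ⟨C, hC0, hC⟩ := exists_bound_of_posdef (fun v w => b (Φ v) (Φ w))
    (fun u v w => by rw [hΦadd]; exact hb_add _ _ _) (fun u v => hb_symm _ _)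
    (fun v hv => hb_pos _ (hΦne v hv)) (fun v => ℓ (Φ v)) (fun u v => by rw [hΦadd]; exact hℓ _ _)
  refine ⟨C, hC0, fun l _ => ?_⟩
  obtain ⟨φ, hφ⟩ := Chev.CharQuot.exists_DSmap (l ≫ π)
  have hl : l = Φ fun i => φ (Pi.single i 1) := by
    have : φ = θ fun i => φ (Pi.single i 1) := by
      refine AddMonoidHom.ext fun x => ?_
      show φ x = ∑ i, φ (Pi.single i 1) * x i
      conv_lhs => rw [← Finset.univ_sum_single x, map_sum]
      refine Finset.sum_congr rfl fun i _ => ?_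
      rw [show Pi.single i (x i) = x i • (Pi.single i (1 : ℤ) : Fin r → ℤ) by
        rw [← Pi.single_smul, smul_eq_mul, _root_.mul_one], map_zsmul, smul_eq_mul, mul_comm]
    show l = Red.DSmap _ (θ fun i => φ (Pi.single i 1)) ≫ σT
    rw [← this, ← hφ, Category.assoc, hπσ, Category.comp_id]
  rw [hl]
  exact hC _

end Groth.Agent.HMu
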