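import Groth.Agent.HMu.Translate
import Groth.Agent.LineGrp.Ga
import Mathlib.Algebra.MonoidAlgebra.NoZeroDivisors
import Mathlib.AlgebraicGeometry.Morphisms.Separated

/-!
# Limit points: fixedness, uniqueness
-/

set_option autoImplicit false
set_option backward.isDefEq.respectTransparency false

universe u

open CategoryTheory CategoryTheory.Limits MonoidalCategory CartesianMonoidalCategory MonObj AlgebraicGeometry Opposite

noncomputable section

namespace Groth.Agent.HMu

variable {S : Scheme.{u}} {G X : Over S} [GrpObj G]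

theorem isIso_AMon_bot_hom :
    IsIso (Magnet.AMon (ULift.{u} ℤ) ↥(⊥ : AddSubmonoid ℤ)).hom := by
  haveI : IsIso (CommRingCat.ofHom (algebraMap (ULift.{u} ℤ)
      (MonoidAlgebra (ULift.{u} ℤ) (Multiplicative ↥(⊥ : AddSubmonoid ℤ))))) := by
    haveI : Subsingleton ↥(⊥ : AddSubmonoid ℤ) := ⟨fun a b => Subtype.ext (a.2.trans b.2.symm)⟩
    haveI : Subsingleton (Multiplicative ↥(⊥ : AddSubmonoid ℤ)) :=
      inferInstanceAs (Subsingleton ↥(⊥ : AddSubmonoid ℤ))
    rw [ConcreteCategory.isIso_iff_bijective]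
    have := (MonoidAlgebra.uniqueAlgEquiv (A := ULift.{u} ℤ) (ULift.{u} ℤ) (Multiplicative ↥(⊥ : AddSubmonoid ℤ))).symm.bijective
    convert this using 1
    funext r
    exact (MonoidAlgebra.uniqueAlgEquiv_symm_apply (R := ULift.{u} ℤ) (M := Multiplicative ↥(⊥ : AddSubmonoid ℤ)) r).symm
  exact inferInstanceAs (IsIso (Spec.map _))

theorem AMonS_bot_hom_ext {T : Over S} (f g : T ⟶ Magnet.AMonS S ↥(⊥ : AddSubmonoid ℤ)) : f = g := by
  ext : 1
  apply pullback.hom_ext
  · haveI := isIso_AMon_bot_hom.{u}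
    rw [← cancel_mono (Magnet.AMon (ULift.{u} ℤ) ↥(⊥ : AddSubmonoid ℤ)).hom]
    exact specULiftZIsTerminal.hom_ext _ _
  · exact (Over.w f).trans (Over.w g).symm

theorem lift_one_restrict {C : Type*} [Category C] [CartesianMonoidalCategory C] {A B T : C} [MonObj A] [MonObj B]
    (φ : A ⟶ B) [IsMonHom φ] (v : T ⟶ A) :
    lift v (toUnit T ≫ η[B]) ≫ ((Magnet.MonAct.regular B).restrict φ).act = v ≫ φ := by
  rw [Magnet.MonAct.lift_restrict_act, Magnet.MonAct.lift_regular_act, ← Hom.one_def, _root_.mul_one]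

variable {a : AlgGrp.Action G X} {l : Red.Gm S ⟶ G} [IsMonHom l] {T : Over S}

theorem attr_eq {N : AddSubmonoid ℤ} (φ : (Magnet.attr (HMNum.gmAct a l) N).obj (op T)) {T' : Over S}
    (u : T' ⟶ Red.Gm S) (b : T' ⟶ Magnet.AMonS S ↥N) (t : T' ⟶ T) :
    lift (lift u b ≫ (Magnet.subAct S ℤ N).act) t ≫ φ.1 = lift (u ≫ l) (lift b t ≫ φ.1) ≫ a.act := by
  rw [(Magnet.MonAct.mem_eqvHom_iff φ.1).mp φ.2, Magnet.MonAct.lift_restrict_act]
  rfl

theorem isFixedBy_limitPt (φ : (HMNum.attrPlus a l).obj (op T)) : HMNum.IsFixedBy a l (HMNum.limitPt φ) := by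
  intro T' t u
  let ψ := (Magnet.attrFace (HMNum.gmAct a l) HMNum.isFace_bot).app (op T) φ
  have h : t ≫ HMNum.limitPt φ =
      lift (toUnit T' ≫ η[Magnet.AMonS S ↥(⊥ : AddSubmonoid ℤ)]) t ≫ ψ.1 := by
    show t ≫ lift (toUnit T ≫ η[Magnet.AMonS S ↥(⊥ : AddSubmonoid ℤ)]) (𝟙 T) ≫ ψ.1 = _
    rw [comp_lift_assoc, ← Category.assoc t, toUnit_unique (t ≫ toUnit T) (toUnit T'), Category.comp_id]
  rw [h, ← attr_eq ψ, AMonS_bot_hom_ext (lift u _ ≫ _) (toUnit T' ≫ η[Magnet.AMonS S ↥(⊥ : AddSubmonoid ℤ)])]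

theorem isLimitPt_of_isFixedBy {y : T ⟶ X} (h : HMNum.IsFixedBy a l y) : HMNum.IsLimitPt a l y y := by
  have hmem : Magnet.MonAct.IsEquivariant ((Magnet.subAct S ℤ HMNum.plus).prod (Magnet.MonAct.trivial _ T))
      (HMNum.gmAct a l) (snd _ T ≫ y) := by
    rw [Magnet.MonAct.mem_eqvHom_iff]
    intro T' u b t
    rw [lift_snd_assoc, lift_snd_assoc, Magnet.MonAct.lift_restrict_act]
    exact (h T' t u).symm
  refine ⟨⟨_, hmem⟩, ?_, ?_⟩
  · rw [Magnet.MonAct.eqvHom.evalAt_app]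
    dsimp only
    rw [lift_snd_assoc, Category.id_comp]
  · rw [HMNum.limitPt_eq]
    dsimp only
    rw [lift_snd_assoc, Category.id_comp]

section Uniq

variable (k : Type u) [Field k]

abbrev Nk := MonoidAlgebra k (Multiplicative ↥HMNum.plus)
abbrev Mk := MonoidAlgebra k (Multiplicative ℤ)

def f : Nk k →ₐ[k] Mk k :=
  MonoidAlgebra.mapDomainAlgHom k k (AddMonoidHom.toMultiplicative HMNum.plus.subtype)

theorem f_injective : Function.Injective (f k) :=
  MonoidAlgebra.mapDomain_injective (fun a b h => Multiplicative.toAdd.injective (Subtype.ext h))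

abbrev Z : Type u := ULift.{u} ℤ

def canN : MonoidAlgebra Z.{u} (Multiplicative ↥HMNum.plus) →+* Nk k :=
  MonoidAlgebra.mapRingHom _ ((Int.castRingHom k).comp ULift.ringEquiv.toRingHom)

def canM : MonoidAlgebra Z.{u} (Multiplicative ℤ) →+* Mk k :=
  MonoidAlgebra.mapRingHom _ ((Int.castRingHom k).comp ULift.ringEquiv.toRingHom)

theorem co_incl {A : Type u} [CommRing A] [Algebra k A]
    (x : LineGrp.specA k A ⟶ LineGrp.rep k (MonoidAlgebra Z.{u} (Multiplicative ℤ))) :
    LineGrp.co (R := MonoidAlgebra Z.{u} (Multiplicative ↥HMNum.plus)) (x ≫ HMNum.incl _) =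
      (LineGrp.co x).comp (MonoidAlgebra.mapDomainBialgHom Z.{u}
        (AddMonoidHom.toMultiplicative HMNum.plus.subtype)).toAlgHom.toRingHom := by
  let e := CommRingCat.ofHom (MonoidAlgebra.mapDomainBialgHom Z.{u}
        (AddMonoidHom.toMultiplicative HMNum.plus.subtype)).toAlgHom.toRingHom
  have h : Spec.map (e ≫ CommRingCat.ofHom (LineGrp.co x)) =
      (x ≫ HMNum.incl _).left ≫ pullback.fst _ _ := by
    rw [Spec.map_comp, Over.comp_left, Category.assoc,
      show (HMNum.incl _).left ≫ pullback.fst _ _ = pullback.fst _ _ ≫ Spec.map e from pullback.lift_fst _ _ _,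
      ← Category.assoc]
    congr 1
    exact Spec.map_preimage _
  exact (congrArg (fun q => (Spec.preimage q).hom) h.symm).trans
    (congrArg CommRingCat.Hom.hom (Spec.preimage_map _))

theorem epi_pt_canN : Epi (LineGrp.pt (k := k) (canN k)) := by
  let P := LineGrp.rep k (MonoidAlgebra Z.{u} (Multiplicative ↥HMNum.plus))
  have : IsAffine P.left := by
    show IsAffine (pullback (X := Spec (CommRingCat.of (MonoidAlgebra Z.{u} (Multiplicative ↥HMNum.plus))))
      (Y := Spec (CommRingCat.of k)) (Z := Spec (CommRingCat.of (ULift.{u} ℤ)))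
      ((Spec _).asOver (Spec (CommRingCat.of (ULift.{u} ℤ)))).hom _)
    infer_instance
  let e := P.left.isoSpec
  let A := Γ(P.left, ⊤)
  obtain ⟨s, hs⟩ := Spec.map_surjective (e.inv ≫ P.hom)
  algebraize [s.hom]
  let q : LineGrp.specA k A ≅ P := Over.isoMk e.symm (by
    show e.inv ≫ _ = Spec.map (CommRingCat.ofHom s.hom)
    rw [CommRingCat.ofHom_hom, hs])
  let x := LineGrp.co q.hom
  let h : Nk k →ₐ[k] A := MonoidAlgebra.lift k A _ (x.toMonoidHom.comp (MonoidAlgebra.of Z.{u} _))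
  have hx : h.toRingHom.comp (canN k) = x := by
    refine MonoidAlgebra.ringHom_ext (fun r => ?_) (fun n => ?_)
    · exact RingHom.congr_fun (LineGrp.ringHom_ulift_ext
        ((h.toRingHom.comp (canN k)).comp MonoidAlgebra.singleOneRingHom) (x.comp MonoidAlgebra.singleOneRingHom)) r
    · simp [canN, h]
  have hq : LineGrp.mapA h ≫ LineGrp.pt (canN k) = q.hom := by
    rw [LineGrp.mapA_pt, hx, LineGrp.pt_co]
  haveI : Epi (LineGrp.mapA h ≫ LineGrp.pt (canN k)) := hq ▸ inferInstance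
  exact epi_of_epi (LineGrp.mapA h) _

theorem ext_of_incl {Y : Over (Spec (CommRingCat.of k))} [IsSeparated Y.hom]
    {p q : HMNum.A1 (Spec (CommRingCat.of k)) ⟶ Y} (h : HMNum.incl _ ≫ p = HMNum.incl _ ≫ q) : p = q := by
  haveI := epi_pt_canN k
  rw [← cancel_epi (LineGrp.pt (k := k) (canN k))]
  have e : LineGrp.mapA (f k) ≫ LineGrp.pt (canN k) = LineGrp.pt (canM k) ≫ HMNum.incl _ := by
    apply LineGrp.ext_co
    rw [LineGrp.mapA_pt, LineGrp.co_pt, co_incl, LineGrp.co_pt]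
    refine MonoidAlgebra.ringHom_ext (fun r => ?_) (fun n => ?_)
    · exact RingHom.congr_fun (LineGrp.ringHom_ulift_ext
        (((f k).toRingHom.comp (canN k)).comp MonoidAlgebra.singleOneRingHom)
        (((canM k).comp (MonoidAlgebra.mapDomainBialgHom Z.{u}
          (AddMonoidHom.toMultiplicative HMNum.plus.subtype)).toAlgHom.toRingHom).comp
            MonoidAlgebra.singleOneRingHom)) r
    · simp [canN, canM, f]
  haveI : IsDomain (Mk k) := NoZeroDivisors.to_isDomain _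
  haveI : IsDomain (Nk k) := (f_injective k).isDomain _
  haveI : IsReduced (LineGrp.specA k (Nk k)).left := inferInstanceAs (IsReduced (Spec (CommRingCat.of (Nk k))))
  haveI : IsDominant (LineGrp.mapA (f k)).left := by
    show IsDominant (Spec.map _)
    refine ⟨(PrimeSpectrum.denseRange_comap_iff_ker_le_nilRadical (f k).toRingHom).mpr ?_⟩
    exact le_of_eq_of_le ((RingHom.injective_iff_ker_eq_bot (f k).toRingHom).mp (f_injective k)) bot_le
  ext : 1
  refine ext_of_isDominant_of_isSeparated Y.hom ?_ (LineGrp.mapA (f k)).left ?_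
  · rw [Over.w, Over.w]
  · rw [← Over.comp_left, ← Over.comp_left, reassoc_of% e, h, ← reassoc_of% e]

theorem limit_unique {G X : Over (Spec (CommRingCat.of k))} [GrpObj G] [IsSeparated X.hom]
    {a : AlgGrp.Action G X} {l : Red.Gm _ ⟶ G} [IsMonHom l]
    {x y y' : 𝟙_ (Over (Spec (CommRingCat.of k))) ⟶ X}
    (h : HMNum.IsLimitPt a l x y) (h' : HMNum.IsLimitPt a l x y') : y = y' := by
  obtain ⟨φ, hx, rfl⟩ := h
  obtain ⟨φ', hx', rfl⟩ := h'
  suffices φ.1 = φ'.1 by rw [Subtype.ext this]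
  rw [← cancel_epi (ρ_ (HMNum.A1 (Spec (CommRingCat.of k)))).inv]
  apply ext_of_incl k
  have key : ∀ ψ : (HMNum.attrPlus a l).obj (op (𝟙_ _)),
      (Magnet.attrToX (HMNum.gmAct a l) HMNum.plus).app (op (𝟙_ _)) ψ = x →
      HMNum.incl _ ≫ (ρ_ _).inv ≫ ψ.1 = lift l (toUnit _ ≫ x) ≫ a.act := by
    intro ψ hψ
    have h1 := attr_eq ψ (𝟙 (Red.Gm _)) (toUnit _ ≫ η[HMNum.A1 _]) (toUnit _)
    have h2 : lift (𝟙 (Red.Gm (Spec (CommRingCat.of k)))) (toUnit _ ≫ η[HMNum.A1 (Spec (CommRingCat.of k))]) ≫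
        (Magnet.subAct _ ℤ HMNum.plus).act = HMNum.incl _ :=
      (lift_one_restrict (Magnet.AMonS.map _ HMNum.plus.subtype) (𝟙 _)).trans (Category.id_comp _)
    rw [Category.id_comp, h2] at h1
    rw [← Category.assoc, show HMNum.incl (Spec (CommRingCat.of k)) ≫ (ρ_ _).inv = lift (HMNum.incl _) (toUnit _) by
      apply CartesianMonoidalCategory.hom_ext
      · rw [Category.assoc, rightUnitor_inv_fst, Category.comp_id, lift_fst]
      · exact toUnit_unique _ _, h1]
    congr 2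
    rw [← hψ, Magnet.MonAct.eqvHom.evalAt_app, comp_lift_assoc, Category.comp_id]
    rw [← Category.assoc, toUnit_unique (toUnit (Red.Gm _) ≫ toUnit _) (toUnit (Red.Gm _))]
  rw [key φ hx, key φ' hx']

end Uniq

end Groth.Agent.HMu
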