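import Mathlib.Algebra.Polynomial.Roots
import Mathlib.Algebra.Polynomial.Laurent
import Mathlib.Algebra.Polynomial.FieldDivision
import Mathlib.RingTheory.PrincipalIdealDomain
import Mathlib.Order.Filter.Cofinite
import Mathlib.Tactic.FieldSimp
import Mathlib.Tactic.LinearCombination

/-!
# Functions of one variable with a value at the origin

Functions on an infinite field that agree, outside a finite set, with a rational function having no pole at `0`.
-/

set_option autoImplicit false

universe u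

open Polynomial Filter
open scoped Classical

namespace Groth.Agent.HMu

variable {k : Type u} [Field k]

/-- `g` agrees almost everywhere with a rational function taking the value `v` at `0`. -/
def Reg0 (g : k → k) (v : k) : Prop :=
  ∃ p q : k[X], q.eval 0 ≠ 0 ∧ p.eval 0 = v * q.eval 0 ∧ ∀ᶠ z in cofinite, g z * q.eval z = p.eval z

theorem eventually_eval_ne_zero {q : k[X]} (hq : q ≠ 0) : ∀ᶠ z in cofinite, q.eval z ≠ 0 := by
  rw [eventually_cofinite]
  exact (q.roots.toFinset.finite_toSet).subset fun z hz => by simpa [hq] using not_not.1 hz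

theorem eventually_ne_zero : ∀ᶠ z : k in cofinite, z ≠ 0 := by simp [eventually_cofinite]

variable [Infinite k]

theorem polynomial_ext_eventually {p q : k[X]} (h : ∀ᶠ z in cofinite, p.eval z = q.eval z) : p = q :=
  Polynomial.eq_of_infinite_eval_eq p q (h.frequently |> frequently_cofinite_iff_infinite.1)

namespace Reg0

variable {g g' : k → k} {v v' : k}

theorem congr (h : Reg0 g v) (e : ∀ᶠ z in cofinite, g z = g' z) : Reg0 g' v := by
  obtain ⟨p, q, h0, hv, hg⟩ := h
  exact ⟨p, q, h0, hv, (e.and hg).mono fun z hz => hz.1 ▸ hz.2⟩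

theorem eval (p : k[X]) : Reg0 (fun z => p.eval z) (p.eval 0) :=
  ⟨p, 1, by simp, by simp, Filter.Eventually.of_forall fun z => by simp⟩

theorem div (p : k[X]) {q : k[X]} (hq : q.eval 0 ≠ 0) :
    Reg0 (fun z => p.eval z / q.eval z) (p.eval 0 / q.eval 0) := by
  refine ⟨p, q, hq, by field_simp, ?_⟩
  filter_upwards [eventually_eval_ne_zero (q := q) fun h => hq (by simp [h])] with z hz
  field_simp

theorem unique (h : Reg0 g v) (h' : Reg0 g v') : v = v' := by
  obtain ⟨p, q, h0, hv, hg⟩ := h
  obtain ⟨p', q', h0', hv', hg'⟩ := h'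
  have e : p * q' = p' * q := polynomial_ext_eventually ((hg.and hg').mono fun z hz => by
    simp only [eval_mul]; rw [← hz.1, ← hz.2]; ring)
  have := congrArg (Polynomial.eval 0) e
  simp only [eval_mul, hv, hv'] at this
  exact mul_left_injective₀ (mul_ne_zero h0 h0') (by simp only; linear_combination this)

theorem mul (h : Reg0 g v) (h' : Reg0 g' v') : Reg0 (fun z => g z * g' z) (v * v') := by
  obtain ⟨p, q, h0, hv, hg⟩ := h
  obtain ⟨p', q', h0', hv', hg'⟩ := h'
  refine ⟨p * p', q * q', by simp [h0, h0'], by simp [hv, hv']; ring, (hg.and hg').mono fun z hz => ?_⟩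
  simp only [eval_mul]; rw [← hz.1, ← hz.2]; ring

theorem pow (h : Reg0 g v) : ∀ n : ℕ, Reg0 (fun z => g z ^ n) (v ^ n)
  | 0 => by simpa using eval (1 : k[X])
  | n + 1 => by simpa only [pow_succ] using (pow h n).mul h

theorem const_mul (h : Reg0 g v) (c : k) : Reg0 (fun z => c * g z) (c * v) := by
  simpa using (eval (C c)).mul h

theorem comp_mul (h : Reg0 g v) {c : k} (hc : c ≠ 0) : Reg0 (fun z => g (c * z)) v := by
  obtain ⟨p, q, h0, hv, hg⟩ := h
  refine ⟨p.comp (C c * X), q.comp (C c * X), by simpa, by simpa, ?_⟩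
  have hinj : Function.Injective fun z : k => c * z := mul_right_injective₀ hc
  filter_upwards [hinj.tendsto_cofinite.eventually hg] with z hz
  simpa using hz

end Reg0

/-- Comparing scaling exponents. -/
theorem zpow_eq_of_scale {g C : k → k} {v : k} (hv : v ≠ 0) (hg : Reg0 g v) {e : ℤ} {c : k} (hc : c ≠ 0) {w : k}
    (hC : Reg0 C w) (h : ∀ᶠ z in cofinite, (c * z) ^ e * g (c * z) = C z * (z ^ e * g z)) : c ^ e = w := by
  have h1 : Reg0 (fun z => c ^ e * g (c * z)) (c ^ e * v) := (hg.comp_mul hc).const_mul _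
  have h2 : Reg0 (fun z => c ^ e * g (c * z)) (w * v) := (hC.mul hg).congr ((h.and eventually_ne_zero).mono
    fun z ⟨hz, hz0⟩ => by
      refine mul_left_injective₀ (zpow_ne_zero e hz0) ?_
      show C z * g z * z ^ e = c ^ e * g (c * z) * z ^ e
      rw [mul_zpow] at hz
      linear_combination (-1 : k) * hz)
  exact mul_left_injective₀ hv (h1.unique h2)

theorem exists_orderOf_ne {d : ℕ} (hd : 0 < d) : ∃ c : k, c ≠ 0 ∧ c ^ d ≠ 1 := by
  have : (X ^ d - 1 : k[X]) * X ≠ 0 := by
    refine mul_ne_zero (X_pow_sub_C_ne_zero hd 1) X_ne_zero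
  obtain ⟨c, hc⟩ := (eventually_eval_ne_zero this).exists
  simp only [eval_mul, eval_sub, eval_pow, eval_X, eval_one, mul_ne_zero_iff, sub_ne_zero] at hc
  exact ⟨c, hc.2, hc.1⟩

theorem exponent_ext {e e' : ℤ} (h : ∀ c : k, c ≠ 0 → c ^ e = c ^ e') : e = e' := by
  by_contra hne
  obtain ⟨c, hc, hcd⟩ := exists_orderOf_ne (k := k) (d := (e - e').natAbs) (Int.natAbs_pos.2 (sub_ne_zero.2 hne))
  refine hcd ?_
  have h1 : c ^ (e - e') = 1 := by rw [zpow_sub₀ hc, h c hc, div_self (zpow_ne_zero _ hc)]
  rcases Int.natAbs_eq (e - e') with he | he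
  · rw [he, zpow_natCast] at h1; exact h1
  · rw [he, zpow_neg, inv_eq_one, zpow_natCast] at h1; exact h1

/-- The evaluation of Laurent polynomials, as a family of characters, is independent. -/
theorem laurent_coeff_eq {a : ℤ →₀ k} {g : k → k} {v : k} {N : ℤ} (hg : Reg0 g v)
    (h : ∀ᶠ z in cofinite, a.sum (fun d c => c * z ^ d) = z ^ N * g z) :
    (∀ d < N, a d = 0) ∧ a N = v := by
  classical
  obtain ⟨p, q, h0, hv, hpq⟩ := hg
  -- shift all exponents to the non-negative range
  obtain ⟨M, hM, hMN⟩ : ∃ M : ℤ, (∀ d ∈ a.support, 0 ≤ d + M) ∧ 0 ≤ N + M := by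
    refine ⟨∑ d ∈ insert N a.support, (d.natAbs : ℤ), fun d hd => ?_, ?_⟩
    · have := Finset.single_le_sum (f := fun d : ℤ => (d.natAbs : ℤ)) (fun _ _ => Int.natCast_nonneg _)
        (Finset.mem_insert_of_mem (a := d) hd : d ∈ insert N a.support)
      omega
    · have := Finset.single_le_sum (f := fun d : ℤ => (d.natAbs : ℤ)) (fun _ _ => Int.natCast_nonneg _)
        (Finset.mem_insert_self N a.support)
      omega
  let A : k[X] := ∑ d ∈ a.support, C (a d) * X ^ (d + M).toNat
  have hA : A * q = X ^ (N + M).toNat * p := polynomial_ext_eventually <| by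
    filter_upwards [h, hpq, eventually_ne_zero] with z hz hz' hz0
    simp only [A, eval_mul, eval_finsetSum, eval_C, eval_pow, eval_X]
    rw [← hz', ← zpow_natCast z, Int.toNat_of_nonneg hMN, zpow_add₀ hz0]
    rw [show (∑ d ∈ a.support, a d * z ^ (d + M).toNat) = (a.sum fun d c => c * z ^ d) * z ^ M by
      rw [Finsupp.sum, Finset.sum_mul]
      refine Finset.sum_congr rfl fun d hd => ?_
      rw [← zpow_natCast z, Int.toNat_of_nonneg (hM d hd), zpow_add₀ hz0]; ring, hz]
    ring
  have hcoeff : ∀ d, 0 ≤ d + M → A.coeff (d + M).toNat = a d := fun d hd => by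
    simp only [A, finsetSum_coeff, coeff_C_mul, coeff_X_pow]
    by_cases hdS : d ∈ a.support
    · rw [Finset.sum_eq_single d]
      · simp
      · intro b hb hbd
        have := hM b hb
        rw [if_neg (by omega), mul_zero]
      · exact fun hn => absurd hdS hn
    · rw [Finset.sum_eq_zero fun b hb => ?_, Finsupp.notMem_support_iff.1 hdS]
      have : b ≠ d := fun e => hdS (e ▸ hb)
      have := hM b hb
      rw [if_neg (by omega), mul_zero]
  have hcop : IsCoprime (X ^ (N + M).toNat) q := by
    refine IsCoprime.pow_left (((irreducible_X (R := k)).coprime_iff_not_dvd).2 fun hdvd => h0 ?_)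
    rw [← coeff_zero_eq_eval_zero, ← X_dvd_iff]
    exact hdvd
  obtain ⟨A', hA'⟩ := hcop.dvd_of_dvd_mul_right ⟨p, hA⟩
  have hA'q : A' * q = p := by
    refine mul_left_cancel₀ (pow_ne_zero (N + M).toNat X_ne_zero) ?_
    rw [← hA, hA']; ring
  refine ⟨fun d hd => ?_, ?_⟩
  · by_cases hdS : d ∈ a.support
    · have h' := hM d hdS
      rw [← hcoeff d h', hA']
      exact (X_pow_dvd_iff.1 (dvd_mul_right _ A')) _ (by omega)
    · exact Finsupp.notMem_support_iff.1 hdS
  · rw [← hcoeff N hMN, hA', coeff_X_pow_mul', if_pos le_rfl, Nat.sub_self, coeff_zero_eq_eval_zero]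
    refine mul_left_injective₀ h0 ?_
    show A'.eval 0 * q.eval 0 = v * q.eval 0
    rw [← hv, ← hA'q, eval_mul]

/-- Powers of a variable are independent. -/
theorem laurent_ext {a : ℤ →₀ k} (h : ∀ z : k, z ≠ 0 → a.sum (fun d c => c * z ^ d) = 0) : a = 0 := by
  ext d
  exact (laurent_coeff_eq (g := fun _ => 0) (v := 0) (N := d) (by simpa using Reg0.eval (0 : k[X]))
    (eventually_ne_zero.mono fun z hz => by rw [h z hz, mul_zero])).2

/-- A multiplicative Laurent polynomial is a monomial. -/
theorem exists_eq_zpow {a : ℤ →₀ k} {C : k → k} (hC : ∀ z, z ≠ 0 → C z = a.sum fun d c => c * z ^ d)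
    (hmul : ∀ z w, z ≠ 0 → w ≠ 0 → C (z * w) = C z * C w) (h1 : C 1 = 1) :
    ∃ e : ℤ, ∀ z, z ≠ 0 → C z = z ^ e := by
  classical
  have key : ∀ (w : k), w ≠ 0 → ∀ d, a d * w ^ d = C w * a d := by
    intro w hw d
    let b : ℤ →₀ k := Finsupp.onFinset a.support (fun d => a d * (w ^ d - C w)) fun d hd => by
      simp only [Finsupp.mem_support_iff]; exact left_ne_zero_of_mul hd
    have hb : b = 0 := laurent_ext fun z hz => by
      rw [Finsupp.onFinset_sum _ (fun d => by simp)]
      have h2 := hmul z w hz hw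
      rw [hC z hz, hC (z * w) (mul_ne_zero hz hw), Finsupp.sum, Finsupp.sum] at h2
      rw [← sub_eq_zero.2 h2, Finset.sum_mul, ← Finset.sum_sub_distrib]
      refine Finset.sum_congr rfl fun d _ => ?_
      rw [mul_zpow]; ring
    have := DFunLike.congr_fun hb d
    simp only [b, Finsupp.onFinset_apply, Finsupp.coe_zero, Pi.zero_apply] at this
    linear_combination this
  obtain ⟨e, he⟩ : ∃ e, a e ≠ 0 := by
    by_contra! h0
    have : a = 0 := Finsupp.ext h0
    rw [hC 1 one_ne_zero, this, Finsupp.sum_zero_index] at h1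
    exact zero_ne_one h1
  exact ⟨e, fun z hz => mul_left_cancel₀ he (by rw [mul_comm _ (C z)]; exact (key z hz e).symm)⟩

end Groth.Agent.HMu
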