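import Groth.Agent.HMu.Val
import Groth.Agent.HMu.Limit
import Groth.Agent.HMu.Reg0

/-!
# Rational points and functions of the multiplicative group and the affine line
-/

set_option autoImplicit false
set_option backward.isDefEq.respectTransparency false
set_option linter.style.haveILetI false

universe u

open CategoryTheory CategoryTheory.Limits MonoidalCategory CartesianMonoidalCategory MonObj AlgebraicGeometry Opposite
open TopologicalSpace Filter

noncomputable section

namespace Groth.Agent.HMu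

variable {k : Type u} [Field k] {M N : Type} [AddCommMonoid M] [AddCommMonoid N]

/-- Points of a diagonalisable monoid scheme are determined by their characters. -/
theorem pt_ext {p q : Pt (D k M)} (h : ∀ m, val (mon m) p trivial = val (mon m) q trivial) : p = q := by
  ext : 1
  haveI : IsAffine (Magnet.AMon (ULift.{u} ℤ) M).left :=
    inferInstanceAs (IsAffine (Spec (CommRingCat.of (MonoidAlgebra (ULift.{u} ℤ) (Multiplicative M)))))
  refine pullback.hom_ext (ext_of_isAffine ?_) ((Over.w p).trans (Over.w q).symm)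
  ext s
  let e := Scheme.ΓSpecIso (CommRingCat.of (MonoidAlgebra (ULift.{u} ℤ) (Multiplicative M)))
  rw [← e.hom_inv_id_apply s]
  generalize e.hom s = s'
  have key : ∀ r : Pt (D k M), ∀ x, (r.left ≫ pullback.fst (amh M) (toZ k)).appTop (e.inv x) =
      r.left.appTop ((pullback.fst (amh M) (toZ k)).appTop (e.inv x)) := fun r x => GmPts.appTop_comp_apply _ _ _
  refine (key p _).trans (Eq.trans ?_ (key q _).symm)
  induction s' using MonoidAlgebra.induction_linear with
  | zero => simp only [map_zero]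
  | add x y hx hy => simp only [map_add, hx, hy]
  | single m c =>
    rw [show MonoidAlgebra.single m c = ((c.down : ℤ) : MonoidAlgebra (ULift.{u} ℤ) (Multiplicative M)) *
      MonoidAlgebra.single (Multiplicative.ofAdd m.toAdd) 1 by
        rw [MonoidAlgebra.intCast_def, MonoidAlgebra.single_mul_single, _root_.one_mul, _root_.mul_one,
          ofAdd_toAdd]
        congr 1]
    simp only [map_mul, map_intCast]
    refine congrArg _ ?_
    have h' := h m.toAdd
    simp only [val, appLE_top] at h'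
    exact (Scheme.ΓSpecIso (CommRingCat.of k)).commRingCatIsoToRingEquiv.injective h'

theorem map_mon (f : N →+ M) (n : N) :
    (Magnet.AMonS.map (Spec (CommRingCat.of k)) f).left.appTop (mon n) = mon (f n) := by
  have e : (Magnet.AMonS.map (Spec (CommRingCat.of k)) f).left ≫ pullback.fst (amh N) (toZ k) =
      pullback.fst (amh M) (toZ k) ≫ Spec.map (CommRingCat.ofHom (MonoidAlgebra.mapDomainBialgHom (ULift.{u} ℤ)
        (AddMonoidHom.toMultiplicative f)).toAlgHom.toRingHom) :=
    pullback.lift_fst _ _ _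
  rw [mon, mon]
  refine (GmPts.appTop_comp_apply _ _ _).symm.trans ?_
  erw [e]
  rw [GmPts.appTop_comp_apply]
  refine congrArg _ ?_
  have h := congr($(Scheme.ΓSpecIso_inv_naturality (CommRingCat.ofHom (MonoidAlgebra.mapDomainBialgHom (ULift.{u} ℤ)
    (AddMonoidHom.toMultiplicative f)).toAlgHom.toRingHom)) (MonoidAlgebra.single (Multiplicative.ofAdd n) 1))
  refine h.symm.trans ?_
  rw [ConcreteCategory.comp_apply]
  refine congrArg _ ?_
  show MonoidAlgebra.mapDomainBialgHom (ULift.{u} ℤ) (AddMonoidHom.toMultiplicative f) _ = _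
  rw [MonoidAlgebra.mapDomainBialgHom_single]
  rfl

theorem val_mon_map (f : N →+ M) (n : N) (p : Pt (D k M)) :
    val (mon n) (p ≫ Magnet.AMonS.map _ f) trivial = val (mon (f n)) p trivial := by
  rw [← val_appTop, map_mon]

variable (k) in
/-- The multiplicative group of the field. -/
abbrev Gm' : Over (Spec (CommRingCat.of k)) := Red.Gm (Spec (CommRingCat.of k))

variable (k) in
/-- The affine line over the field. -/
abbrev A1' : Over (Spec (CommRingCat.of k)) := HMNum.A1 (Spec (CommRingCat.of k))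

/-- The exponents as a character. -/
def zchr (z : kˣ) : Multiplicative ℤ →* k := (Units.coeHom k).comp (zpowersHom kˣ z)

theorem zchr_apply (z : kˣ) (d : ℤ) : zchr z (Multiplicative.ofAdd d) = (z : k) ^ d := by
  simp [zchr]

/-- The point of a unit. -/
def gp (z : kˣ) : Pt (Gm' k) := dPt (M := ℤ) (zchr z)

theorem val_mon_gp (z : kˣ) (d : ℤ) : val (Z := Gm' k) (mon (M := ℤ) d) (gp z) trivial = (z : k) ^ d :=
  (val_mon_dPt (k := k) (zchr z) d).trans (zchr_apply z d)

theorem mon_eq_tPow (d : ℤ) (T : Over (Spec (CommRingCat.of k))) (g : T ⟶ Gm' k) :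
    g.left.appTop (mon (M := ℤ) d) = ((GmPts.unitOfPt g ^ d : (Γ(T.left, ⊤))ˣ) : Γ(T.left, ⊤)) := by
  rw [← GmPts.ringHomOfUnit_tPow, GmPts.ringHomOfUnit_unitOfPt, mon]
  exact (GmPts.appTop_comp_apply _ _ _).symm

theorem gmFn_eq (p : Pt (Gm' k)) : (Scheme.ΓSpecIso (CommRingCat.of k)).hom (Red.gmFn p) =
    val (Z := Gm' k) (mon (M := ℤ) 1) p trivial := by
  have h := mon_eq_tPow 1 _ p
  rw [zpow_one, GmPts.val_unitOfPt] at h
  simp only [val, appLE_top]
  rw [h]

theorem gp_mul (z w : kˣ) : gp (z * w) = gp z * gp w := by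
  apply GmPts.gmFn_injective
  apply (Scheme.ΓSpecIso (CommRingCat.of k)).commRingCatIsoToRingEquiv.injective
  show (Scheme.ΓSpecIso (CommRingCat.of k)).hom (Red.gmFn (gp (z * w))) =
    (Scheme.ΓSpecIso (CommRingCat.of k)).hom (Red.gmFn (gp z * gp w))
  rw [GmPts.gmFn_mul (gp z) (gp w), map_mul, gmFn_eq, gmFn_eq, gmFn_eq, val_mon_gp, val_mon_gp, val_mon_gp]
  simp

theorem gp_one : gp (1 : kˣ) = 1 := by
  apply GmPts.gmFn_injective
  apply (Scheme.ΓSpecIso (CommRingCat.of k)).commRingCatIsoToRingEquiv.injective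
  show (Scheme.ΓSpecIso (CommRingCat.of k)).hom (Red.gmFn (gp (1 : kˣ))) =
    (Scheme.ΓSpecIso (CommRingCat.of k)).hom (Red.gmFn (1 : Pt (Gm' k)))
  rw [GmPts.gmFn_one, map_one, gmFn_eq, val_mon_gp]
  simp

/-- The characters of the non-negative exponents. -/
def nchr (z : k) : Multiplicative ↥HMNum.plus →* k where
  toFun n := z ^ ((n.toAdd : ℤ).toNat)
  map_one' := by simp
  map_mul' m n := by
    rw [← pow_add, toAdd_mul]
    congr 1
    have := (HMNum.mem_plus_iff _).1 m.toAdd.2
    have := (HMNum.mem_plus_iff _).1 n.toAdd.2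
    rw [AddSubmonoid.coe_add]; omega

/-- The point of the line with given coordinate. -/
def ap (z : k) : Pt (A1' k) := dPt (nchr z)

theorem val_mon_ap (z : k) (n : ↥HMNum.plus) : val (mon n) (ap z) trivial = z ^ (n.1.toNat) := val_mon_dPt _ n

theorem gp_incl (z : kˣ) : gp z ≫ HMNum.incl _ = ap (z : k) := by
  refine pt_ext fun n => ?_
  rw [val_mon_ap]
  refine (val_mon_map (k := k) HMNum.plus.subtype n (gp z)).trans ((val_mon_gp z n.1).trans ?_)
  rw [← zpow_natCast, Int.toNat_of_nonneg ((HMNum.mem_plus_iff _).1 n.2)]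

theorem origin_eq : HMNum.origin (Spec (CommRingCat.of k)) = ap 0 := by
  refine pt_ext fun n => ?_
  rw [val_mon_ap, HMNum.origin, AMonS_bot_hom_ext η[Magnet.AMonS (Spec (CommRingCat.of k)) ↥(⊥ : AddSubmonoid ℤ)]
    (dPt 1)]
  have e : (Magnet.AMonS.faceMap (Spec (CommRingCat.of k)) HMNum.isFace_bot).left ≫ pullback.fst (amh _) (toZ k) =
      pullback.fst (amh _) (toZ k) ≫ Spec.map (CommRingCat.ofHom
        (Magnet.faceAlgHom (ULift.{u} ℤ) HMNum.isFace_bot).toRingHom) :=
    pullback.lift_fst _ _ _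
  have h : (Magnet.AMonS.faceMap (Spec (CommRingCat.of k)) HMNum.isFace_bot).left.appTop (mon n) =
      (pullback.fst (amh ↥(⊥ : AddSubmonoid ℤ)) (toZ k)).appTop ((Scheme.ΓSpecIso (CommRingCat.of
        (MonoidAlgebra (ULift.{u} ℤ) (Multiplicative ↥(⊥ : AddSubmonoid ℤ))))).inv
          (Magnet.faceAlgHom (ULift.{u} ℤ) HMNum.isFace_bot (MonoidAlgebra.single (Multiplicative.ofAdd n) 1))) := by
    rw [mon]
    refine (GmPts.appTop_comp_apply _ _ _).symm.trans ?_
    erw [e]
    rw [GmPts.appTop_comp_apply]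
    exact congrArg _ congr($(Scheme.ΓSpecIso_inv_naturality (CommRingCat.ofHom
        (Magnet.faceAlgHom (ULift.{u} ℤ) HMNum.isFace_bot).toRingHom))
      (MonoidAlgebra.single (Multiplicative.ofAdd n) 1)).symm
  rw [← val_appTop, h]
  by_cases hn : (n : ℤ) = 0
  · rw [Magnet.faceAlgHom_single_of_mem _ _ n (by simpa using hn),
      show (n.1).toNat = 0 by rw [hn]; rfl, pow_zero]
    exact val_mon_dPt _ _
  · rw [Magnet.faceAlgHom_single_of_not_mem _ _ n (by simpa using hn), map_zero, map_zero,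
      zero_pow (by have := (HMNum.mem_plus_iff _).1 n.2; omega)]
    exact map_zero (valHom (Z := D k ↥(⊥ : AddSubmonoid ℤ)) (dPt 1) (U := ⊤) trivial)

/-- Values of functions on the line are polynomials. -/
theorem exists_poly (s : Γ((A1' k).left, ⊤)) :
    ∃ P : Polynomial k, ∀ z, val s (ap z) trivial = P.eval z := by
  obtain ⟨a, rfl⟩ := exists_eq_sum s
  refine ⟨∑ m ∈ a.support, Polynomial.C (a m) * Polynomial.X ^ (m.1.toNat), fun z => ?_⟩
  rw [val_sum, Finsupp.sum, Polynomial.eval_finsetSum]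
  refine Finset.sum_congr rfl fun m _ => ?_
  simp only [Polynomial.eval_mul, Polynomial.eval_C, Polynomial.eval_pow, Polynomial.eval_X]
  exact congrArg _ (val_mon_ap z m)

/-- Values of functions on the multiplicative group are Laurent polynomials. -/
theorem exists_laurent (s : Γ((Gm' k).left, ⊤)) :
    ∃ a : ℤ →₀ k, ∀ z : kˣ, val s (gp z) trivial = a.sum fun d c => c * (z : k) ^ d := by
  obtain ⟨a, rfl⟩ := exists_eq_sum (M := ℤ) s
  refine ⟨a, fun z => ?_⟩
  refine (val_sum a (gp z)).trans (Finset.sum_congr rfl fun d _ => ?_)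
  exact congrArg _ (val_mon_gp z d)

/-- Functions on the multiplicative group are determined by their values. -/
theorem gm_fn_ext [Infinite k] {s t : Γ((Gm' k).left, ⊤)}
    (h : ∀ z : kˣ, val s (gp z) trivial = val t (gp z) trivial) : s = t := by
  obtain ⟨a, ha⟩ := exists_eq_sum (M := ℤ) (s - t)
  rw [← sub_eq_zero, ha]
  have : a = 0 := laurent_ext fun z hz => by
    have h1 := val_sum a (gp (Units.mk0 z hz))
    rw [← ha, ← valHom_apply, map_sub, valHom_apply, valHom_apply, h, sub_self] at h1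
    rw [h1]
    refine Finset.sum_congr rfl fun d _ => ?_
    exact congrArg _ (val_mon_gp (Units.mk0 z hz) d).symm
  rw [this, Finsupp.sum_zero_index]

theorem exists_gp (p : Pt (Gm' k)) : ∃ z : kˣ, gp z = p := by
  refine ⟨Units.mk0 (val (Z := Gm' k) (mon (M := ℤ) 1) p trivial) fun h0 => ?_, ?_⟩
  · have h1 : val (Z := Gm' k) (U := ⊤) (mon (M := ℤ) 1 * mon (M := ℤ) (-1)) p trivial = 1 := by
      rw [← mon_add, show (1 : ℤ) + -1 = 0 from rfl, mon_zero, val_one]
    rw [val_mul, h0, zero_mul] at h1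
    exact zero_ne_one h1
  · apply GmPts.gmFn_injective
    apply (Scheme.ΓSpecIso (CommRingCat.of k)).commRingCatIsoToRingEquiv.injective
    exact (gmFn_eq _).trans ((val_mon_gp _ 1).trans (by rw [zpow_one, Units.val_mk0, ← gmFn_eq]; rfl))

theorem eventually_of_units {P : k → Prop} (h : ∀ z : kˣ, P z) : ∀ᶠ z in cofinite, P z :=
  eventually_ne_zero.mono fun _ hz => h (Units.mk0 _ hz)

/-- A function regular near the origin of the line has a value there. -/
theorem exists_reg0 {U : (A1' k).left.Opens} (h0 : base (ap (0 : k)) ∈ U) (g : Γ((A1' k).left, U)) :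
    (∀ᶠ z in cofinite, base (ap (z : k)) ∈ U) ∧ ∀ G : k → k, (∀ z h, G z = val g (ap z) h) →
      Reg0 G (val g (ap 0) h0) := by
  haveI : IsAffine (A1' k).left := by
    show IsAffine (pullback (amh ↥HMNum.plus) (toZ k))
    infer_instance
  obtain ⟨q, hqU, hq0⟩ := (isAffineOpen_top (A1' k).left).exists_basicOpen_le (⟨_, h0⟩ : U) trivial
  obtain ⟨Q, hQ⟩ := exists_poly q
  have hQ0 : Q.eval 0 ≠ 0 := by rw [← hQ 0]; exact (val_ne_zero_iff q _ _).2 hq0
  have hmem : ∀ z, Q.eval z ≠ 0 → base (ap z) ∈ (A1' k).left.basicOpen q := fun z hz => by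
    rw [← hQ z] at hz; exact (val_ne_zero_iff q _ _).1 hz
  have hev := eventually_eval_ne_zero (q := Q) fun h => hQ0 (by simp [h])
  refine ⟨hev.mono fun z hz => hqU (hmem z hz), fun G hG => ?_⟩
  haveI := isLocalization_away_of_isAffine q
  obtain ⟨⟨p, ⟨_, m, rfl⟩⟩, hp⟩ := IsLocalization.surj (Submonoid.powers q)
    ((A1' k).left.presheaf.map (homOfLE hqU).op g)
  obtain ⟨P, hP⟩ := exists_poly p
  have key : ∀ z (hz : base (ap z) ∈ (A1' k).left.basicOpen q),
      val g (ap z) (hqU hz) * Q.eval z ^ m = P.eval z := fun z hz => by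
    have h1 := congrArg (valHom (ap z) hz) hp
    rw [map_mul, valHom_apply, valHom_apply, valHom_apply] at h1
    erw [val_res, val_res, val_res] at h1
    rw [val_pow, hQ, hP] at h1
    exact h1
  refine ⟨P, Q ^ m, by simpa using pow_ne_zero m hQ0, ?_, ?_⟩
  · rw [Polynomial.eval_pow]; exact (key 0 hq0).symm
  · refine hev.mono fun z hz => ?_
    rw [Polynomial.eval_pow, hG z (hqU (hmem z hz))]
    exact key z (hmem z hz)

/-- A nowhere vanishing function on an open of the multiplicative group has an order at the origin. -/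
theorem exists_order {U : (Gm' k).left.Opens} (g : Γ((Gm' k).left, U)) {z₀ : kˣ} (h : base (gp z₀) ∈ U) [Infinite k]
    {G : k → k} (hG : ∀ (z : kˣ) h, G z = val g (gp z) h) (hne : ∀ᶠ z in cofinite, G z ≠ 0) :
    (∀ᶠ z in cofinite, ∃ hz : z ≠ 0, base (gp (Units.mk0 z hz)) ∈ U) ∧
      ∃ (e : ℤ) (R : k → k) (v : k), v ≠ 0 ∧ Reg0 R v ∧ ∀ᶠ z in cofinite, G z = z ^ e * R z := by
  haveI : IsAffine (Gm' k).left := by
    show IsAffine (pullback (amh ℤ) (toZ k))
    infer_instance
  obtain ⟨q, hqU, hq0⟩ := (isAffineOpen_top (Gm' k).left).exists_basicOpen_le (⟨_, h⟩ : U) trivial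
  -- Laurent polynomials are polynomials over powers of the variable
  have hpoly : ∀ s : Γ((Gm' k).left, ⊤), ∃ (P : Polynomial k) (d : ℤ), ∀ z : kˣ,
      val s (gp z) trivial = (z : k) ^ d * P.eval (z : k) := fun s => by
    obtain ⟨a, ha⟩ := exists_laurent s
    let M : ℕ := ∑ d ∈ a.support, d.natAbs
    refine ⟨∑ d ∈ a.support, Polynomial.C (a d) * Polynomial.X ^ (d + M).toNat, -M, fun z => ?_⟩
    rw [ha, Finsupp.sum, Polynomial.eval_finsetSum, Finset.mul_sum]
    refine Finset.sum_congr rfl fun d hd => ?_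
    have := Finset.single_le_sum (f := fun d : ℤ => d.natAbs) (fun _ _ => Nat.zero_le _) hd
    simp only [Polynomial.eval_mul, Polynomial.eval_C, Polynomial.eval_pow, Polynomial.eval_X]
    rw [← zpow_natCast, Int.toNat_of_nonneg (by omega), mul_left_comm, ← zpow_add₀ z.ne_zero]
    congr 2; omega
  obtain ⟨Q, dQ, hQ⟩ := hpoly q
  haveI := isLocalization_away_of_isAffine q
  obtain ⟨⟨p, ⟨_, m, rfl⟩⟩, hp⟩ := IsLocalization.surj (Submonoid.powers q)
    ((Gm' k).left.presheaf.map (homOfLE hqU).op g)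
  obtain ⟨P, dP, hP⟩ := hpoly p
  have hQ0 : Q ≠ 0 := fun h => (val_ne_zero_iff q _ trivial).2 hq0 (by rw [hQ, h]; simp)
  have hev : ∀ᶠ z in cofinite, ∃ hz : z ≠ 0, base (gp (Units.mk0 z hz)) ∈ (Gm' k).left.basicOpen q := by
    filter_upwards [eventually_eval_ne_zero hQ0, eventually_ne_zero] with z hz hz0
    refine ⟨hz0, (val_ne_zero_iff q _ trivial).1 ?_⟩
    rw [hQ]; exact mul_ne_zero (zpow_ne_zero _ hz0) hz
  refine ⟨hev.mono fun z ⟨hz, hm⟩ => ⟨hz, hqU hm⟩, ?_⟩
  have hGe : ∀ᶠ z in cofinite, G z * (z ^ (dQ * m) * Q.eval z ^ m) = z ^ dP * P.eval z := hev.mono fun z ⟨hz, hm⟩ => by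
    have h1 := congrArg (valHom (gp (Units.mk0 z hz)) hm) hp
    rw [map_mul, valHom_apply, valHom_apply, valHom_apply] at h1
    erw [val_res, val_res, val_res] at h1
    rw [val_pow, hQ, hP, ← hG] at h1
    rw [zpow_mul, zpow_natCast, ← mul_pow]
    exact h1
  have hP0 : P ≠ 0 := fun h0 => by
    obtain ⟨z, hz1, ⟨hz2, hz3⟩, hz4⟩ := (hGe.and ((hne.and eventually_ne_zero).and (eventually_eval_ne_zero hQ0))).exists
    rw [h0, Polynomial.eval_zero, mul_zero, mul_eq_zero, mul_eq_zero] at hz1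
    rcases hz1 with h1 | h1 | h1
    · exact hz2 h1
    · exact zpow_ne_zero _ hz3 h1
    · exact pow_ne_zero _ hz4 h1
  obtain ⟨P', hP', hP'0⟩ := Polynomial.exists_eq_pow_rootMultiplicity_mul_and_not_dvd P hP0 0
  obtain ⟨Q', hQ', hQ'0⟩ := Polynomial.exists_eq_pow_rootMultiplicity_mul_and_not_dvd Q hQ0 0
  simp only [map_zero, sub_zero] at hP' hP'0 hQ' hQ'0
  have ev0 : ∀ {P : Polynomial k}, ¬ Polynomial.X ∣ P → P.eval 0 ≠ 0 := fun {P} h h0 => h <| by
    rw [Polynomial.X_dvd_iff, Polynomial.coeff_zero_eq_eval_zero, h0]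
  refine ⟨dP + P.rootMultiplicity 0 - (dQ + Q.rootMultiplicity 0) * m,
    fun z => P'.eval z / (Q' ^ m).eval z, _, ?_, Reg0.div P' (q := Q' ^ m) (by simpa using pow_ne_zero m (ev0 hQ'0)), ?_⟩
  · exact div_ne_zero (ev0 hP'0) (by simpa using pow_ne_zero m (ev0 hQ'0))
  filter_upwards [hGe, eventually_ne_zero, eventually_eval_ne_zero hQ0] with z hz hz0 hzQ
  rw [hP', hQ'] at hz
  simp only [Polynomial.eval_mul, Polynomial.eval_pow, Polynomial.eval_X] at hz ⊢
  have hq' : Q'.eval z ≠ 0 := fun h => hzQ (by rw [hQ']; simp [h])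
  rw [zpow_sub₀ hz0, zpow_add₀ hz0, add_mul, zpow_add₀ hz0, zpow_mul z ((Q.rootMultiplicity 0 : ℕ) : ℤ),
    zpow_natCast, zpow_natCast, zpow_natCast]
  rw [mul_pow] at hz
  field_simp
  linear_combination hz

end Groth.Agent.HMu
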