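import Groth.Agent.HMu.TorusWeights
import Groth.Agent.Chev.MaxTori
import Groth.Agent.Chev.TorusImage
import Groth.Agent.Chev.Parabolic
import Groth.Agent.Chev.NonAffTori
import Groth.Agent.Rigid.GeomFibre
import Groth.Agent.S15607

/-!
# The numerical function on a maximal torus; one-parameter subgroups are conjugate into it
-/

set_option autoImplicit false
set_option backward.isDefEq.respectTransparency false
set_option linter.style.haveILetI false

universe u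

open CategoryTheory CategoryTheory.Limits MonoidalCategory CartesianMonoidalCategory MonObj AlgebraicGeometry Opposite

noncomputable section

namespace Groth.Agent.HMu

variable {k : Type u} [Field k] [IsAlgClosed k] {G X T : Over (Spec (CommRingCat.of k))} [GrpObj G] [GrpObj T]

/-- The numerical function on a torus is the maximum of finitely many additive functions. -/
theorem exists_functionals (hT : Red.IsTorus T) (i : T ⟶ G) [IsMonHom i] [IsProper X.hom]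
    {a : AlgGrp.Action G X} (B : GLinSh.LinBun G a) (hB : HMNum.AmpleCover B) :
    ∃ (n : ℕ) (ℓ : Fin n → (Red.Gm (Spec (CommRingCat.of k)) ⟶ T) → ℚ),
      (∀ (j : Fin n) (l₁ l₂ : Red.Gm (Spec (CommRingCat.of k)) ⟶ T) [IsMonHom l₁] [IsMonHom l₂],
          ℓ j (l₁ * l₂) = ℓ j l₁ + ℓ j l₂) ∧
      ∀ (x : Pt X), ∃ I : Finset (Fin n),
        ∀ (l : Red.Gm (Spec (CommRingCat.of k)) ⟶ T) [IsMonHom l] (m : ℤ),
          HMNum.IsMu B (l ≫ i) x m ↔ ∃ j ∈ I, (m : ℚ) = ℓ j l ∧ ∀ j' ∈ I, ℓ j' l ≤ ℓ j l := by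
  classical
  obtain ⟨r, ⟨e⟩⟩ := Chev.exists_split_algClosed hT
  haveI : IsMonHom e.hom.hom.hom := e.hom.hom.isMonHom_hom
  haveI : IsMonHom e.inv.hom.hom := e.inv.hom.isMonHom_hom
  let π : T ⟶ D' k r := e.hom.hom.hom
  let σT : D' k r ⟶ T := e.inv.hom.hom
  haveI : IsMonHom π := ‹IsMonHom e.hom.hom.hom›
  haveI : IsMonHom σT := ‹IsMonHom e.inv.hom.hom›
  have hπσ : π ≫ σT = 𝟙 T := ((Grp.forget _).mapIso e).hom_inv_id
  obtain ⟨I₀, hI₀⟩ := exists_formula hB (σT ≫ i)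
  refine ⟨I₀.card, fun j l => -(expo (l ≫ π) (I₀.equivFin.symm j).1.2 : ℚ) / ((I₀.equivFin.symm j).1.1 : ℚ),
    fun j l₁ l₂ _ _ => ?_, fun x => ?_⟩
  · show -(expo ((l₁ * l₂) ≫ π) _ : ℚ) / _ = -(expo (l₁ ≫ π) _ : ℚ) / _ + -(expo (l₂ ≫ π) _ : ℚ) / _
    rw [MonObj.mul_comp, expo_mul]
    push_cast
    ring
  obtain ⟨I, hI, hform⟩ := hI₀ x
  refine ⟨Finset.univ.filter fun j => (I₀.equivFin.symm j).1 ∈ I, fun l _ m => ?_⟩
  have hl : l ≫ i = (l ≫ π) ≫ σT ≫ i := by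
    rw [Category.assoc, ← Category.assoc π, hπσ, Category.id_comp]
  rw [isMu_congr hl]
  have key : ∀ m' : ℤ, HMNum.IsMu B ((l ≫ π) ≫ σT ≫ i) x m' →
      ∃ j, (I₀.equivFin.symm j).1 ∈ I ∧ (m' : ℚ) = -(expo (l ≫ π) (I₀.equivFin.symm j).1.2 : ℚ) /
        ((I₀.equivFin.symm j).1.1 : ℚ) ∧ ∀ j', (I₀.equivFin.symm j').1 ∈ I →
          -(expo (l ≫ π) (I₀.equivFin.symm j').1.2 : ℚ) / ((I₀.equivFin.symm j').1.1 : ℚ) ≤ m' := by
    intro m' hm'
    obtain ⟨h1, p, hp, hpm⟩ := hform (l ≫ π) m' hm'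
    refine ⟨I₀.equivFin ⟨p, hI hp⟩, ?_, ?_, fun j' hj' => h1 _ hj'⟩
    · rw [Equiv.symm_apply_apply]; exact hp
    · rw [Equiv.symm_apply_apply]; exact hpm
  constructor
  · intro hm
    obtain ⟨j, hj, hjm, hle⟩ := key m hm
    exact ⟨j, Finset.mem_filter.2 ⟨Finset.mem_univ _, hj⟩, hjm,
      fun j' hj' => (hle j' (Finset.mem_filter.1 hj').2).trans hjm.le⟩
  · rintro ⟨j, hj, hjm, hle⟩
    obtain ⟨m', hm'⟩ := exists_isMu ((l ≫ π) ≫ σT ≫ i) B x
    obtain ⟨j', hj', hjm', hle'⟩ := key m' hm'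
    have : (m : ℚ) = (m' : ℚ) := le_antisymm (hjm.le.trans (hle' j (Finset.mem_filter.1 hj).2))
      (hjm'.le.trans ((hle j' (Finset.mem_filter.2 ⟨Finset.mem_univ _, hj'⟩)).trans hjm.ge))
    rw [Int.cast_inj] at this
    rwa [this]


/-- One-parameter subgroups are conjugate into a maximal torus. -/
theorem exists_conj_torus (hG : Red.IsReductive G) (i : T ⟶ G) [IsMonHom i] (hi : Red.IsMaximalTorus i)
    (l : Red.Gm (Spec (CommRingCat.of k)) ⟶ G) [IsMonHom l] :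
    ∃ (g : Pt G) (l' : Red.Gm (Spec (CommRingCat.of k)) ⟶ T),
      IsMonHom l' ∧ l = cst g _ * (l' ≫ i) * (cst g _)⁻¹ := by
  haveI : IsAffine G.left := by
    haveI := hG.1
    exact isAffine_of_isAffineHom G.hom
  haveI := hG.2.1
  haveI : ConnectedSpace G.left := by
    haveI := Rigid.geometricallyConnected_of_geomFibre G fun s => (hG.2.2 s).2.2.1
    exact GeometricallyConnected.geometrically_connectedSpace (f := G.hom) (𝟙 (Spec (CommRingCat.of k))) (𝟙 G.left)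
      G.hom (IsPullback.id_horiz G.hom)
  haveI hGm := Chev.smooth_of_isTorus (S15607.isTorus_Gm (k := k))
  haveI : QuasiCompact (Red.Gm (Spec (CommRingCat.of k))).hom := by
    haveI := Chev.isAffine_of_isTorus (S15607.isTorus_Gm (k := k))
    infer_instance
  obtain ⟨R, hR, j, p, hj, hp, hjc, hRs, hps, hpj⟩ := Chev.Borel.exists_smooth_image l
  haveI := hj; haveI := hp; haveI := hjc; haveI := hRs; haveI := hps
  haveI : Mono j := GrpField.SchImg.mono_of_isClosedImmersion j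
  haveI : QuasiCompact R.hom := by rw [← Over.w j]; infer_instance
  have hRT : Red.IsTorus R := Chev.isTorus_of_surjective (T := Red.Gm (Spec (CommRingCat.of k))) (L := R) (S15607.isTorus_Gm (k := k)) p
  obtain ⟨T₀, B₀, hT₀g, hB₀g, t, b, htm, htc, hb, htor, huniv⟩ := Chev.Borel.exists_universal_torus G
  haveI := htm; haveI := htc; haveI := hb.1; haveI := hb.2.1
  haveI : Mono t := GrpField.SchImg.mono_of_isClosedImmersion t
  haveI : Mono b := GrpField.SchImg.mono_of_isClosedImmersion b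
  have htb : AGF.IsMaxTorus (t ≫ b) := Chev.Borel.isMaxTorus_of_universal (t ≫ b) htor huniv
  obtain ⟨g, f, hf, hfj⟩ := huniv R j hRT
  obtain ⟨g', f', hf', hfi⟩ := Chev.Borel.maxTorus_conj (G := G) (t ≫ b) i htb
    (Chev.Borel.isMaxTorus_of_isMaximalTorus i hi)
  haveI := hf; haveI := hf'
  refine ⟨(g' * g)⁻¹, p ≫ f ≫ f'.hom, inferInstance, ?_⟩
  have e : AGF.conjBy (g' * g) j = (f ≫ f'.hom) ≫ i := by
    rw [Category.assoc, hfi, Chev.Borel.comp_conjBy', hfj, Chev.Borel.conjBy_conjBy]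
  have e2 : (p ≫ f ≫ f'.hom) ≫ i = AGF.conjBy (g' * g) l := by
    rw [Category.assoc, ← e, Chev.Borel.comp_conjBy', hpj]
  show l = AGF.conjBy (g' * g)⁻¹ ((p ≫ f ≫ f'.hom) ≫ i)
  rw [e2, Chev.Borel.conjBy_conjBy, inv_mul_cancel, Chev.Borel.conjBy_one]

end Groth.Agent.HMu
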