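import Groth.Agent.HMu.Exists
import Groth.Agent.HomDiag.Points
import Groth.Agent.MTTorus.CommFactor
import Groth.Agent.Chev.TorusExt
import Mathlib.RingTheory.Algebraic.Defs
import Mathlib.LinearAlgebra.LinearIndependent.Lemmas

/-!
# The numerical function on a split torus is a maximum of finitely many linear forms
-/

set_option autoImplicit false
set_option backward.isDefEq.respectTransparency false
set_option linter.style.haveILetI false
set_option linter.unusedSectionVars false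

universe u

open CategoryTheory CategoryTheory.Limits MonoidalCategory CartesianMonoidalCategory MonObj AlgebraicGeometry Opposite
open TopologicalSpace

noncomputable section

namespace Groth.Agent.HMu

theorem isMu_congr {S : Scheme.{u}} {G X : Over S} [GrpObj G] {a : AlgGrp.Action G X} {B : GLinSh.LinBun G a}
    {l l' : Red.Gm S ⟶ G} [IsMonHom l] [IsMonHom l'] (h : l = l') {T : Over S} (x : T ⟶ X) (m : ℤ) :
    HMNum.IsMu B l x m ↔ HMNum.IsMu B l' x m := by
  subst h; rfl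

variable {k : Type u} [Field k] {r : ℕ}

/-- The split torus of rank `r`. -/
abbrev D' (k : Type u) [Field k] (r : ℕ) : Over (Spec (CommRingCat.of k)) :=
  Red.DS (Spec (CommRingCat.of k)) (Fin r → ℤ)

theorem val_mon_eq_ch {M : Type} [AddCommGroup M] (p : Pt (Red.DS (Spec (CommRingCat.of k)) M)) (m : M) :
    val (Z := Red.DS (Spec (CommRingCat.of k)) M) (mon m) p trivial =
      (Scheme.ΓSpecIso (CommRingCat.of k)).hom (HomDiag.ch p (Multiplicative.ofAdd m)) := by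
  rw [val_top]
  exact congrArg _ (GmPts.appTop_comp_apply p.left _ _).symm

theorem val_congr_top {Z : Over (Spec (CommRingCat.of k))} {p q : Pt Z} (s : Γ(Z.left, ⊤)) (e : p = q) :
    val (U := ⊤) s p trivial = val (U := ⊤) s q trivial := by
  subst e; rfl

theorem mul_comm' {T : Over (Spec (CommRingCat.of k))} (u v : T ⟶ D' k r) : u * v = v * u :=
  HomDiag.ch_ext fun m => by rw [HomDiag.ch_mul, HomDiag.ch_mul, mul_comm]

theorem chr_mul (p q : Pt (D' k r)) (χ : Fin r → ℤ) :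
    val (Z := D' k r) (mon χ) (p * q) trivial =
      val (Z := D' k r) (mon χ) p trivial * val (Z := D' k r) (mon χ) q trivial := by
  rw [val_mon_eq_ch, val_mon_eq_ch, val_mon_eq_ch, HomDiag.ch_mul, map_mul]

theorem chr_one (χ : Fin r → ℤ) : val (Z := D' k r) (mon χ) (1 : Pt (D' k r)) trivial = 1 := by
  have h := chr_mul (1 : Pt (D' k r)) 1 χ
  rw [val_congr_top _ (_root_.mul_one (1 : Pt (D' k r)))] at h
  refine (mul_eq_left₀ (val_ne_zero_of_isUnit ?_ _ _)).1 h.symm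
  refine IsUnit.of_mul_eq_one (mon (k := k) (-χ)) ?_
  rw [← mon_add, add_neg_cancel, mon_zero]

theorem exists_expo [Infinite k] (l : Gm' k ⟶ D' k r) [IsMonHom l] (χ : Fin r → ℤ) :
    ∃ d : ℤ, ∀ z : kˣ, val (Z := D' k r) (mon χ) (gp z ≫ l) trivial = (z : k) ^ d := by
  have hC : ∀ z : kˣ, val (Z := Gm' k) (U := ⊤) (l.left.appTop (mon χ)) (gp z) trivial =
      val (Z := D' k r) (mon χ) (gp z ≫ l) trivial := fun z => val_appTop l _ _
  obtain ⟨e, he⟩ := eq_mon_of_mul (l.left.appTop (mon χ))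
    (by
      rw [hC, val_congr_top _ (show gp (1 : kˣ) ≫ l = (1 : Pt (D' k r)) by rw [gp_one, MonObj.one_comp]),
        chr_one])
    (fun z w => by
      rw [hC, hC, hC, val_congr_top _ (show gp (z * w) ≫ l = (gp z ≫ l) * (gp w ≫ l) by
        rw [gp_mul, MonObj.mul_comp]), chr_mul])
  exact ⟨e, fun z => by rw [← hC, he, val_mon_gp]⟩

open scoped Classical in
/-- The pairing of a character and a one-parameter subgroup. -/
def expo (l : Gm' k ⟶ D' k r) (χ : Fin r → ℤ) : ℤ :=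
  if h : ∃ d : ℤ, ∀ z : kˣ, val (Z := D' k r) (mon χ) (gp z ≫ l) trivial = (z : k) ^ d then h.choose else 0

theorem val_expo [Infinite k] (l : Gm' k ⟶ D' k r) [IsMonHom l] (χ : Fin r → ℤ) (z : kˣ) :
    val (Z := D' k r) (mon χ) (gp z ≫ l) trivial = (z : k) ^ expo l χ := by
  rw [expo, dif_pos (exists_expo l χ)]
  exact (exists_expo l χ).choose_spec z

theorem expo_mul [Infinite k] (l₁ l₂ : Gm' k ⟶ D' k r) [IsMonHom l₁] [IsMonHom l₂] (χ : Fin r → ℤ) :
    expo (l₁ * l₂) χ = expo l₁ χ + expo l₂ χ := by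
  have key : ∀ z : kˣ, val (Z := D' k r) (mon χ) (gp z ≫ (l₁ * l₂)) trivial = (z : k) ^ (expo l₁ χ + expo l₂ χ) :=
    fun z => by
      rw [val_congr_top _ (MonObj.comp_mul (gp z) l₁ l₂), chr_mul, val_expo, val_expo,
        zpow_add₀ z.ne_zero]
  have h : ∃ d : ℤ, ∀ z : kˣ, val (Z := D' k r) (mon χ) (gp z ≫ (l₁ * l₂)) trivial = (z : k) ^ d := ⟨_, key⟩
  rw [expo, dif_pos h]
  refine exponent_ext (k := k) fun c hc => ?_
  have h1 := h.choose_spec (Units.mk0 c hc)
  rw [key, Units.val_mk0] at h1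
  exact h1.symm

/-- Characters are independent. -/
theorem coeff_eq_zero [Infinite k] (S : Finset (Fin r → ℤ)) (c : (Fin r → ℤ) → k)
    (h : ∀ C : Multiplicative (Fin r → ℤ) →* k, ∑ χ ∈ S, c χ * C (Multiplicative.ofAdd χ) = 0) :
    ∀ χ ∈ S, c χ = 0 := by
  classical
  let ev : (Fin r → ℤ) → ((Multiplicative (Fin r → ℤ) →* k) →* k) := fun χ =>
    { toFun := fun C => C (Multiplicative.ofAdd χ), map_one' := rfl, map_mul' := fun _ _ => rfl }
  have hev : Function.Injective ev := by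
    intro χ χ' he
    funext i
    refine exponent_ext (k := k) fun z hz => ?_
    let C : Multiplicative (Fin r → ℤ) →* k := (zchr (Units.mk0 z hz)).comp
      (AddMonoidHom.toMultiplicative (Pi.evalAddMonoidHom (fun _ : Fin r => ℤ) i))
    have h1 : C (Multiplicative.ofAdd χ) = C (Multiplicative.ofAdd χ') := DFunLike.congr_fun he C
    simp only [C, MonoidHom.comp_apply] at h1
    erw [zchr_apply, zchr_apply] at h1
    exact h1
  have hli := (linearIndependent_monoidHom (Multiplicative (Fin r → ℤ) →* k) k).comp ev hev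
  refine linearIndependent_iff'.1 hli S c ?_
  funext C
  simp only [Finset.sum_apply, Pi.smul_apply, Function.comp_apply, smul_eq_mul, Pi.zero_apply]
  exact h C

variable {G X : Over (Spec (CommRingCat.of k))} [GrpObj G] {a : AlgGrp.Action G X} (B : GLinSh.LinBun G a)

/-- The coefficients of a weight function along a torus. -/
theorem exists_coeff (j : D' k r ⟶ G) (W : B.V.left.Opens) (hW : IsAffineOpen W) (f : Γ(B.V.left, ⊤)) :
    ∃ S : Finset (Fin r → ℤ), ∀ v : Pt B.V, base v ∈ W → ∃ c : (Fin r → ℤ) → k, ∀ p : Pt (D' k r),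
      val (U := ⊤) f (lift (p ≫ j) v ≫ B.lift.act) trivial =
        ∑ χ ∈ S, c χ * val (Z := D' k r) (mon χ) p trivial := by
  let Wo : Over (Spec (CommRingCat.of k)) := Over.mk (W.ι ≫ B.V.hom)
  haveI : IsAffine Wo.left := hW
  let iW : Wo ⟶ B.V := Over.homMk W.ι rfl
  let act : D' k r ⊗ Wo ⟶ B.V := lift (fst _ _ ≫ j) (snd _ _ ≫ iW) ≫ B.lift.act
  obtain ⟨b, hb⟩ := exists_val_prod_eq (M := Fin r → ℤ) Wo (act.left.appTop f)
  refine ⟨b.support, fun v hv => ?_⟩
  let q : Pt Wo := Over.homMk (IsOpenImmersion.lift W.ι v.left (by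
    rintro _ ⟨t, rfl⟩
    exact ⟨⟨_, top_le_pre hv (Set.mem_univ t)⟩, rfl⟩)) (by
    show _ ≫ W.ι ≫ B.V.hom = _
    rw [IsOpenImmersion.lift_fac_assoc]
    exact Over.w v)
  have hq : q ≫ iW = v := Over.OverMorphism.ext (IsOpenImmersion.lift_fac _ _ _)
  refine ⟨fun χ => val (U := ⊤) (b χ) q trivial, fun p => ?_⟩
  have e : lift (p ≫ j) v ≫ B.lift.act = lift p q ≫ act := by
    rw [comp_lift_assoc, lift_fst_assoc, lift_snd_assoc, hq]
  rw [val_congr_top f e, ← val_appTop act f (lift p q)]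
  exact hb p q

variable {B}

theorem exists_finite_affine [CompactSpace X.left] :
    ∃ t : Finset B.V.left.Opens, (∀ W ∈ t, IsAffineOpen W) ∧ ∀ w : B.V.left, ∃ W ∈ t, w ∈ W := by
  haveI := GITss.isAffineHom_π (B := B)
  haveI : CompactSpace B.V.left := QuasiCompact.compactSpace_of_compactSpace B.π.left
  have h : ∀ w : B.V.left, ∃ W : B.V.left.Opens, IsAffineOpen W ∧ w ∈ W := fun w => by
    obtain ⟨W, hW, hw, -⟩ := exists_isAffineOpen_mem_and_subset (x := w) (U := ⊤) trivial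
    exact ⟨W, hW, hw⟩
  choose W hW hw using h
  obtain ⟨t, ht⟩ := isCompact_univ.elim_finite_subcover (fun w => (W w : Set B.V.left)) (fun w => (W w).isOpen)
    fun w _ => Set.mem_iUnion.2 ⟨w, hw w⟩
  classical
  refine ⟨t.image W, fun U hU => ?_, fun w => ?_⟩
  · obtain ⟨i, -, rfl⟩ := Finset.mem_image.1 hU; exact hW i
  · obtain ⟨i, hi, hwi⟩ := Set.mem_iUnion₂.1 (ht (Set.mem_univ w))
    exact ⟨W i, Finset.mem_image_of_mem W hi, hwi⟩

theorem exists_finite_sections (hB : HMNum.AmpleCover B) :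
    ∃ t : Finset (ℕ × Γ(B.V.left, ⊤)), (∀ p ∈ t, 1 ≤ p.1 ∧ GLinSh.HasWeight B.atlas.chart p.1 p.2) ∧
      ∀ x : X.left, ∃ p ∈ t, x ∈ GLinSh.nonvanishing B.π p.2 := by
  haveI := hB.1
  choose n f hn hf hx U hU using hB.2
  obtain ⟨t, ht⟩ := isCompact_univ.elim_finite_subcover (fun x => GLinSh.nonvanishing B.π (f x))
    (fun x => GITss.isOpen_nonvanishing B (hf x)) fun x _ => Set.mem_iUnion.2 ⟨x, hx x⟩
  classical
  refine ⟨t.image fun x => (n x, f x), fun p hp => ?_, fun x => ?_⟩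
  · obtain ⟨i, -, rfl⟩ := Finset.mem_image.1 hp; exact ⟨hn i, hf i⟩
  · obtain ⟨i, hi, hxi⟩ := Set.mem_iUnion₂.1 (ht (Set.mem_univ x))
    exact ⟨(n i, f i), Finset.mem_image_of_mem (fun x => (n x, f x)) hi, hxi⟩

set_option maxHeartbeats 400000 in
/-- The numerical function on a split torus: the maximum of finitely many linear forms. -/
theorem exists_formula [Infinite k] (hB : HMNum.AmpleCover B) (j : D' k r ⟶ G) [IsMonHom j] :
    ∃ I₀ : Finset (ℕ × (Fin r → ℤ)), ∀ x : Pt X, ∃ I ⊆ I₀, ∀ (l : Gm' k ⟶ D' k r) [IsMonHom l] (m : ℤ),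
      HMNum.IsMu B (l ≫ j) x m →
        (∀ p ∈ I, -(expo l p.2 : ℚ) / (p.1 : ℚ) ≤ m) ∧ ∃ p ∈ I, (m : ℚ) = -(expo l p.2 : ℚ) / (p.1 : ℚ) := by
  classical
  haveI := hB.1
  haveI : Subsingleton ↥(Spec (CommRingCat.of k)) := subsingleton_spec
  let s : ↥(Spec (CommRingCat.of k)) := (⟨⊥, Ideal.isPrime_bot⟩ : PrimeSpectrum k)
  obtain ⟨F, hF, hFc⟩ := exists_finite_sections hB
  obtain ⟨𝒲, h𝒲, h𝒲c⟩ := exists_finite_affine (B := B)
  have hS : ∀ (q : (ℕ × Γ(B.V.left, ⊤)) × {W // W ∈ 𝒲}), ∃ S : Finset (Fin r → ℤ), ∀ v : Pt B.V,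
      base v ∈ q.2.1 → ∃ c : (Fin r → ℤ) → k, ∀ p : Pt (D' k r),
        val (U := ⊤) q.1.2 (lift (p ≫ j) v ≫ B.lift.act) trivial =
          ∑ χ ∈ S, c χ * val (Z := D' k r) (mon χ) p trivial :=
    fun q => exists_coeff B j q.2.1 (h𝒲 _ q.2.2) q.1.2
  choose S hS using hS
  refine ⟨(F ×ˢ 𝒲.attach).biUnion fun q => (S q).image fun χ => (q.1.1, χ), fun x => ?_⟩
  obtain ⟨v, hv, hnz⟩ := exists_nz (B := B) x
  obtain ⟨W, hW, hvW⟩ := h𝒲c (base v)
  choose c hc using fun f : ℕ × Γ(B.V.left, ⊤) => hS (f, ⟨W, hW⟩) v hvW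
  refine ⟨F.biUnion fun f => ((S (f, ⟨W, hW⟩)).filter fun χ => c f χ ≠ 0).image fun χ => (f.1, χ), ?_, ?_⟩
  · intro p hp
    obtain ⟨f, hf, hp⟩ := Finset.mem_biUnion.1 hp
    obtain ⟨χ, hχ, rfl⟩ := Finset.mem_image.1 hp
    exact Finset.mem_biUnion.2 ⟨(f, ⟨W, hW⟩), Finset.mem_product.2 ⟨hf, Finset.mem_attach _ _⟩,
      Finset.mem_image.2 ⟨χ, (Finset.mem_filter.1 hχ).1, rfl⟩⟩
  intro l _ m hm
  -- the coefficients along the translated orbit
  have key : ∀ f ∈ F, ∀ t : Pt (D' k r), ∀ d : ℤ, d < -((f.1 : ℤ) * m) →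
      ∑ χ ∈ S (f, ⟨W, hW⟩) with expo l χ = d, c f χ * val (Z := D' k r) (mon χ) t trivial = 0 := by
    intro f hf t d hd
    have hcomm : cst (t ≫ j) (Gm' k) * (l ≫ j) = (l ≫ j) * cst (t ≫ j) (Gm' k) := by
      rw [cst, ← Category.assoc, ← MonObj.mul_comp, ← MonObj.mul_comp,
        mul_comm']
    have hm' := isMu_translate s B x (l ≫ j) (l ≫ j) (t ≫ j) hcomm m hm
    obtain ⟨y, -, hy⟩ := core hm'
    let as : ℤ →₀ k := ∑ χ ∈ S (f, ⟨W, hW⟩), Finsupp.single (expo l χ) (c f χ * val (Z := D' k r) (mon χ) t trivial)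
    have h1 := (hy f.1 f.2 (hF f hf).2 (lift (t ≫ j) v ≫ B.lift.act) (by rw [act_π, hv]) (hnz.translate _) as
      fun z => by
        rw [val_congr_top f.2 (show lift (gp z ≫ l ≫ j) (lift (t ≫ j) v ≫ B.lift.act) ≫ B.lift.act =
          lift (((gp z ≫ l) * t) ≫ j) v ≫ B.lift.act by rw [act_act, MonObj.mul_comp, Category.assoc]),
          hc f, ← Finsupp.sum_finsetSum_index (fun _ => by simp) (fun _ _ _ => add_mul _ _ _)]
        refine Finset.sum_congr rfl fun χ _ => ?_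
        rw [Finsupp.sum_single_index (zero_mul _), chr_mul, val_expo]
        ring).1 d hd
    simp only [as, Finsupp.finsetSum_apply, Finsupp.single_apply] at h1
    rw [← Finset.sum_filter] at h1
    exact h1
  refine ⟨fun p hp => ?_, ?_⟩
  · obtain ⟨f, hf, hp⟩ := Finset.mem_biUnion.1 hp
    obtain ⟨χ, hχ, rfl⟩ := Finset.mem_image.1 hp
    rw [Finset.mem_filter] at hχ
    have hn : (0 : ℚ) < (f.1 : ℚ) := by exact_mod_cast (hF f hf).1
    rw [div_le_iff₀ hn]
    by_contra hlt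
    have hd : expo l χ < -((f.1 : ℤ) * m) := by
      have h' : (expo l χ : ℚ) < ((-((f.1 : ℤ) * m) : ℤ) : ℚ) := by push_cast; linarith [not_le.1 hlt]
      exact_mod_cast h'
    refine hχ.2 (coeff_eq_zero ((S (f, ⟨W, hW⟩)).filter fun χ' => expo l χ' = expo l χ) (c f) (fun C => ?_) χ (Finset.mem_filter.2 ⟨hχ.1, rfl⟩))
    have h1 := key f hf (dPt C) _ hd
    simp only [val_mon_dPt] at h1
    exact h1
  · obtain ⟨y, -, hy⟩ := core hm
    obtain ⟨f, hf, hfy⟩ := hFc (base y)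
    let as : ℤ →₀ k := ∑ χ ∈ S (f, ⟨W, hW⟩), Finsupp.single (expo l χ) (c f χ)
    have h1 := (hy f.1 f.2 (hF f hf).2 v hv hnz as fun z => by
      rw [val_congr_top f.2 (show lift (gp z ≫ l ≫ j) v ≫ B.lift.act = lift ((gp z ≫ l) ≫ j) v ≫ B.lift.act by
        rw [Category.assoc]), hc f,
        ← Finsupp.sum_finsetSum_index (fun _ => by simp) (fun _ _ _ => add_mul _ _ _)]
      refine Finset.sum_congr rfl fun χ _ => ?_
      rw [Finsupp.sum_single_index (zero_mul _), val_expo]).2 hfy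
    simp only [as, Finsupp.finsetSum_apply, Finsupp.single_apply] at h1
    obtain ⟨χ, hχ, hne⟩ := Finset.exists_ne_zero_of_sum_ne_zero h1
    split at hne
    · next he =>
      refine ⟨(f.1, χ), Finset.mem_biUnion.2 ⟨f, hf, Finset.mem_image.2
        ⟨χ, Finset.mem_filter.2 ⟨hχ, hne⟩, rfl⟩⟩, ?_⟩
      have hn : (0 : ℚ) < (f.1 : ℚ) := by exact_mod_cast (hF f hf).1
      rw [eq_div_iff hn.ne', he]
      push_cast
      ring
    · exact absurd rfl hne

end Groth.Agent.HMu
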