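import Groth.Prelude.Def_HMNum
import Groth.Prelude.Def_Red2
import Groth.Agent.GITss.Weight

/-!
# Values of functions at rational points; points and functions of diagonalisable monoid schemes
-/

set_option autoImplicit false
set_option backward.isDefEq.respectTransparency false
set_option linter.style.haveILetI false

universe u

open CategoryTheory CategoryTheory.Limits MonoidalCategory CartesianMonoidalCategory MonObj AlgebraicGeometry Opposite
open TopologicalSpace

noncomputable section

namespace Groth.Agent.HMu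

variable {k : Type u} [Field k]

/-- Rational points. -/
abbrev Pt (Z : Over (Spec (CommRingCat.of k))) : Type u := 𝟙_ (Over (Spec (CommRingCat.of k))) ⟶ Z

/-- The point underlying a rational point. -/
def base {Z : Over (Spec (CommRingCat.of k))} (p : Pt Z) : Z.left := p.left (IsLocalRing.closedPoint k)

theorem subsingleton_one : Subsingleton (𝟙_ (Over (Spec (CommRingCat.of k)))).left :=
  inferInstanceAs (Subsingleton (PrimeSpectrum k))

theorem top_le_pre {Z : Over (Spec (CommRingCat.of k))} {p : Pt Z} {U : Z.left.Opens} (h : base p ∈ U) :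
    ⊤ ≤ p.left ⁻¹ᵁ U := fun t _ => by
  haveI := subsingleton_one (k := k)
  show p.left t ∈ U
  rw [Subsingleton.elim t (IsLocalRing.closedPoint k)]; exact h

theorem base_comp {Z W : Over (Spec (CommRingCat.of k))} (p : Pt Z) (f : Z ⟶ W) :
    base (p ≫ f) = f.left (base p) := rfl

/-- The value of a function at a rational point. -/
def val {Z : Over (Spec (CommRingCat.of k))} {U : Z.left.Opens} (s : Γ(Z.left, U)) (p : Pt Z)
    (h : base p ∈ U) : k :=
  (Scheme.ΓSpecIso (CommRingCat.of k)).hom (p.left.appLE U ⊤ (top_le_pre h) s)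

variable {Z W : Over (Spec (CommRingCat.of k))} {U V : Z.left.Opens}

/-- Values as a ring homomorphism. -/
def valHom (p : Pt Z) (h : base p ∈ U) : Γ(Z.left, U) →+* k :=
  (p.left.appLE U ⊤ (top_le_pre h) ≫ (Scheme.ΓSpecIso (CommRingCat.of k)).hom).hom

theorem valHom_apply (p : Pt Z) (h : base p ∈ U) (s : Γ(Z.left, U)) : valHom p h s = val s p h := rfl

theorem val_mul (s t : Γ(Z.left, U)) (p : Pt Z) (h : base p ∈ U) : val (s * t) p h = val s p h * val t p h :=
  map_mul (valHom p h) s t

theorem val_one (p : Pt Z) (h : base p ∈ U) : val (1 : Γ(Z.left, U)) p h = 1 := map_one (valHom p h)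

theorem val_pow (s : Γ(Z.left, U)) (n : ℕ) (p : Pt Z) (h : base p ∈ U) : val (s ^ n) p h = val s p h ^ n :=
  map_pow (valHom p h) s n

theorem val_congr {p q : Pt Z} (e : p = q) (s : Γ(Z.left, U)) (h : base p ∈ U) :
    val s p h = val s q (e ▸ h) := by subst e; rfl

theorem val_res (i : V ≤ U) (s : Γ(Z.left, U)) (p : Pt Z) (h : base p ∈ V) :
    val (Z.left.presheaf.map (homOfLE i).op s) p h = val s p (i h) := by
  show (Scheme.ΓSpecIso (CommRingCat.of k)).hom _ = (Scheme.ΓSpecIso (CommRingCat.of k)).hom _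
  rw [← ConcreteCategory.comp_apply (Z.left.presheaf.map _) (p.left.appLE V ⊤ _), Scheme.Hom.map_appLE]

theorem val_app (f : Z ⟶ W) {U' : W.left.Opens} (s : Γ(W.left, U')) (p : Pt Z)
    (h : base p ∈ f.left ⁻¹ᵁ U') : val (f.left.app U' s) p h = val s (p ≫ f) h := by
  show (Scheme.ΓSpecIso (CommRingCat.of k)).hom _ = (Scheme.ΓSpecIso (CommRingCat.of k)).hom _
  refine congrArg _ ?_
  rw [Scheme.Hom.app_eq_appLE, ← ConcreteCategory.comp_apply, Scheme.Hom.appLE_comp_appLE]
  rfl

theorem val_appLE (f : Z ⟶ W) {U' : W.left.Opens} (i : V ≤ f.left ⁻¹ᵁ U') (s : Γ(W.left, U')) (p : Pt Z)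
    (h : base p ∈ V) : val (f.left.appLE U' V i s) p h = val s (p ≫ f) (i h) := by
  show val (Z.left.presheaf.map (homOfLE i).op (f.left.app U' s)) p h = _
  rw [val_res, val_app]

theorem val_appTop (f : Z ⟶ W) (s : Γ(W.left, ⊤)) (p : Pt Z) :
    val (U := ⊤) (f.left.appTop s) p trivial = val s (p ≫ f) trivial :=
  val_app f (U' := ⊤) s p trivial

theorem val_ne_zero_iff (s : Γ(Z.left, U)) (p : Pt Z) (h : base p ∈ U) :
    val s p h ≠ 0 ↔ base p ∈ Z.left.basicOpen s := by
  have e : base p ∈ Z.left.basicOpen s ↔ IsLocalRing.closedPoint k ∈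
      (𝟙_ (Over (Spec (CommRingCat.of k)))).left.basicOpen (p.left.appLE U ⊤ (top_le_pre h) s) := by
    show _ ↔ IsLocalRing.closedPoint k ∈
      (𝟙_ (Over (Spec (CommRingCat.of k)))).left.basicOpen
        ((𝟙_ (Over (Spec (CommRingCat.of k)))).left.presheaf.map (homOfLE (top_le_pre h)).op (p.left.app U s))
    rw [Scheme.basicOpen_res, ← Scheme.preimage_basicOpen]
    exact ⟨fun hp => ⟨trivial, hp⟩, fun hp => hp.2⟩
  rw [e]
  show (Scheme.ΓSpecIso (CommRingCat.of k)).hom (p.left.appLE U ⊤ (top_le_pre h) s) ≠ 0 ↔ _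
  constructor
  · intro hne
    have hu : IsUnit (p.left.appLE U ⊤ (top_le_pre h) s) := by
      have := (isUnit_iff_ne_zero.2 hne).map (Scheme.ΓSpecIso (CommRingCat.of k)).inv.hom
      rwa [show (Scheme.ΓSpecIso (CommRingCat.of k)).inv.hom
        ((Scheme.ΓSpecIso (CommRingCat.of k)).hom _) = _ from Iso.hom_inv_id_apply _ _] at this
    rw [Scheme.basicOpen_of_isUnit _ hu]; trivial
  · intro hm h0
    have h1 : p.left.appLE U ⊤ (top_le_pre h) s = 0 :=
      (Scheme.ΓSpecIso (CommRingCat.of k)).commRingCatIsoToRingEquiv.injective (h0.trans (map_zero _).symm)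
    rw [h1, Scheme.basicOpen_zero] at hm
    exact hm

theorem val_ne_zero_of_isUnit {s : Γ(Z.left, U)} (hs : IsUnit s) (p : Pt Z) (h : base p ∈ U) : val s p h ≠ 0 :=
  (hs.map (valHom p h)).ne_zero

theorem appLE_top {A B : Scheme.{u}} (f : A ⟶ B) (e : ⊤ ≤ f ⁻¹ᵁ ⊤) : f.appLE ⊤ ⊤ e = f.appTop := by
  simp [Scheme.Hom.appLE]

theorem val_hom_appTop (c : Γ(Spec (CommRingCat.of k), ⊤)) (p : Pt Z) :
    val (U := ⊤) (Z.hom.appTop c) p trivial = (Scheme.ΓSpecIso (CommRingCat.of k)).hom c := by
  show (Scheme.ΓSpecIso (CommRingCat.of k)).hom (p.left.appLE ⊤ ⊤ _ (Z.hom.appTop c)) = _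
  have e : p.left.appLE ⊤ ⊤ (top_le_pre (U := ⊤) trivial) = p.left.appTop := appLE_top _ _
  rw [e, ← ConcreteCategory.comp_apply, ← Scheme.Hom.comp_appTop, Over.w p]
  exact congrArg _ (congr($(Scheme.Hom.id_appTop (X := Spec (CommRingCat.of k))) c))

/-- Functions on a fibre product of affine schemes are sums of products. -/
theorem span_of_isPullback {P A B C : Scheme.{u}} [IsAffine A] [IsAffine B] [IsAffine C]
    {pa : P ⟶ A} {pb : P ⟶ B} {f : A ⟶ C} {g : B ⟶ C} (h : IsPullback pa pb f g)
    {motive : Γ(P, ⊤) → Prop} (h0 : motive 0) (hadd : ∀ s t, motive s → motive t → motive (s + t))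
    (hmul : ∀ a b, motive (pa.appTop a * pb.appTop b)) (s : Γ(P, ⊤)) : motive s := by
  have hpo := isPushout_appTop_of_isPullback h
  let H : AddSubmonoid Γ(P, ⊤) := AddSubmonoid.closure (Set.range fun ab : Γ(A, ⊤) × Γ(B, ⊤) =>
    pa.appTop ab.1 * pb.appTop ab.2)
  have hneg : ∀ t ∈ H, -t ∈ H := fun t ht => by
    induction ht using AddSubmonoid.closure_induction with
    | mem t ht =>
      obtain ⟨⟨a, b⟩, rfl⟩ := ht
      exact AddSubmonoid.subset_closure ⟨(-a, b), by simp⟩
    | zero => simp
    | add x y _ _ hx hy => rw [neg_add]; exact add_mem hx hy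
  let R : Subring Γ(P, ⊤) :=
    { H with
      one_mem' := AddSubmonoid.subset_closure ⟨(1, 1), by simp⟩
      neg_mem' := fun {t} ht => hneg t ht
      mul_mem' := fun {x y} hx hy => by
        induction hx using AddSubmonoid.closure_induction with
        | mem x hx =>
          induction hy using AddSubmonoid.closure_induction with
          | mem y hy =>
            obtain ⟨⟨a, b⟩, rfl⟩ := hx
            obtain ⟨⟨a', b'⟩, rfl⟩ := hy
            exact AddSubmonoid.subset_closure ⟨(a * a', b * b'), by simp only [map_mul]; ring⟩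
          | zero => rw [mul_zero]; exact H.zero_mem
          | add y z _ _ h1 h2 => rw [mul_add]; exact H.add_mem h1 h2
        | zero => rw [zero_mul]; exact H.zero_mem
        | add x z _ _ h1 h2 => rw [add_mul]; exact H.add_mem h1 h2 }
  let ia : Γ(A, ⊤) ⟶ CommRingCat.of R := CommRingCat.ofHom (pa.appTop.hom.codRestrict R fun a =>
    AddSubmonoid.subset_closure ⟨(a, 1), by simp⟩)
  let ib : Γ(B, ⊤) ⟶ CommRingCat.of R := CommRingCat.ofHom (pb.appTop.hom.codRestrict R fun b =>
    AddSubmonoid.subset_closure ⟨(1, b), by simp⟩)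
  have hw : f.appTop ≫ ia = g.appTop ≫ ib := by
    ext c
    exact congr($(hpo.w) c)
  let d := hpo.desc ia ib hw
  have hd : d ≫ CommRingCat.ofHom R.subtype = 𝟙 _ := hpo.hom_ext
    (by rw [Category.comp_id]; exact (hpo.inl_desc_assoc ia ib hw _).trans rfl)
    (by rw [Category.comp_id]; exact (hpo.inr_desc_assoc ia ib hw _).trans rfl)
  have hs : s ∈ H := by
    have := (d s).2
    rwa [show ((d s : R) : Γ(P, ⊤)) = s from congr($hd s)] at this
  induction hs using AddSubmonoid.closure_induction with
  | mem t ht => obtain ⟨⟨a, b⟩, rfl⟩ := ht; exact hmul a b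
  | zero => exact h0
  | add x y _ _ hx hy => exact hadd x y hx hy

/-! ### Diagonalisable monoid schemes -/

variable (k) in
/-- The map to the integers. -/
abbrev toZ : Spec (CommRingCat.of k) ⟶ Spec (CommRingCat.of (ULift.{u} ℤ)) :=
  Limits.IsTerminal.from specULiftZIsTerminal _

variable (k) in
/-- The diagonalisable monoid scheme over the field. -/
abbrev D (M : Type) [AddCommMonoid M] : Over (Spec (CommRingCat.of k)) :=
  Magnet.AMonS (Spec (CommRingCat.of k)) M

variable {M : Type} [AddCommMonoid M]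

variable (M) in
/-- The structure map of the diagonalisable monoid scheme over the integers. -/
abbrev amh : Spec (CommRingCat.of (MonoidAlgebra (ULift.{u} ℤ) (Multiplicative M))) ⟶
    Spec (CommRingCat.of (ULift.{u} ℤ)) :=
  (Magnet.AMon (ULift.{u} ℤ) M).hom

/-- The monomial of an exponent. -/
def mon (m : M) : Γ((D k M).left, ⊤) :=
  (pullback.fst (amh M) (toZ k)).appTop
    ((Scheme.ΓSpecIso (CommRingCat.of (MonoidAlgebra (ULift.{u} ℤ) (Multiplicative M)))).inv
      (MonoidAlgebra.single (Multiplicative.ofAdd m) 1))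

theorem mon_zero : mon (k := k) (0 : M) = 1 := by
  rw [mon, ofAdd_zero, ← MonoidAlgebra.one_def, map_one, map_one]

theorem mon_add (m n : M) : mon (k := k) (m + n) = mon m * mon n := by
  rw [mon, mon, mon, show MonoidAlgebra.single (Multiplicative.ofAdd (m + n)) (1 : ULift.{u} ℤ) =
    MonoidAlgebra.single (Multiplicative.ofAdd m) 1 * MonoidAlgebra.single (Multiplicative.ofAdd n) 1 by
      rw [MonoidAlgebra.single_mul_single, _root_.mul_one]; rfl, map_mul, map_mul]

/-- The point of a character. -/
def dPt (χ : Multiplicative M →* k) : Pt (D k M) :=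
  Over.homMk (pullback.lift (Spec.map (CommRingCat.ofHom
    (MonoidAlgebra.liftNCRingHom ((Int.castRingHom k).comp (ULift.ringEquiv : ULift.{u} ℤ ≃+* ℤ).toRingHom) χ
      fun _ _ => Commute.all _ _))) (𝟙 _) (specULiftZIsTerminal.hom_ext _ _)) (pullback.lift_snd _ _ _)

theorem val_mon_dPt (χ : Multiplicative M →* k) (m : M) :
    val (mon m) (dPt χ) trivial = χ (Multiplicative.ofAdd m) := by
  show (Scheme.ΓSpecIso (CommRingCat.of k)).hom ((dPt χ).left.appLE ⊤ ⊤ _ (mon m)) = _
  rw [appLE_top]
  let ρ := CommRingCat.ofHom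
    (MonoidAlgebra.liftNCRingHom ((Int.castRingHom k).comp (ULift.ringEquiv : ULift.{u} ℤ ≃+* ℤ).toRingHom) χ
      fun _ _ => Commute.all _ _)
  have e : (dPt χ).left ≫ pullback.fst (amh M) (toZ k) = Spec.map ρ := pullback.lift_fst _ _ _
  have h := congr($(Scheme.ΓSpecIso_inv_naturality ρ) (MonoidAlgebra.single (Multiplicative.ofAdd m) 1))
  show (Scheme.ΓSpecIso (CommRingCat.of k)).hom ((dPt χ).left.appTop ((pullback.fst (amh M) (toZ k)).appTop _)) = _
  refine (congrArg _ (GmPts.appTop_comp_apply (dPt χ).left (pullback.fst (amh M) (toZ k)) _).symm).trans ?_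
  erw [e]
  refine (congrArg (Scheme.ΓSpecIso (CommRingCat.of k)).hom h.symm).trans ?_
  erw [ConcreteCategory.comp_apply, Iso.inv_hom_id_apply]
  simp [ρ, MonoidAlgebra.liftNCRingHom_single]

/-- The character of a point. -/
def chr (p : Pt (D k M)) : Multiplicative M →* k where
  toFun m := val (mon m.toAdd) p trivial
  map_one' := by rw [toAdd_one, mon_zero, val_one]
  map_mul' m n := by rw [toAdd_mul, mon_add, val_mul]

/-- Functions on a diagonalisable monoid scheme times an affine scheme. -/
theorem span_prod (B : Over (Spec (CommRingCat.of k))) [IsAffine B.left] {motive : Γ((D k M ⊗ B).left, ⊤) → Prop}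
    (h0 : motive 0) (hadd : ∀ s t, motive s → motive t → motive (s + t))
    (hmul : ∀ (m : M) b, motive ((fst (D k M) B).left.appTop (mon m) * (snd (D k M) B).left.appTop b))
    (s : Γ((D k M ⊗ B).left, ⊤)) : motive s := by
  have h : IsPullback ((fst (D k M) B).left ≫ pullback.fst (amh M) (toZ k))
      (snd (D k M) B).left (amh M) (B.hom ≫ toZ k) :=
    ((IsPullback.of_hasPullback (D k M).hom B.hom).flip.paste_vert
      (IsPullback.of_hasPullback (amh M) (toZ k)).flip).flip
  refine span_of_isPullback h h0 hadd (fun a b => ?_) s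
  rw [← (Scheme.ΓSpecIso (CommRingCat.of (MonoidAlgebra (ULift.{u} ℤ) (Multiplicative M)))).hom_inv_id_apply a]
  generalize (Scheme.ΓSpecIso (CommRingCat.of (MonoidAlgebra (ULift.{u} ℤ) (Multiplicative M)))).hom a = a'
  induction a' using MonoidAlgebra.induction_linear with
  | zero => simp only [map_zero, zero_mul]; exact h0
  | add x y hx hy => simp only [map_add, add_mul]; exact hadd _ _ hx hy
  | single m c =>
    rw [show MonoidAlgebra.single m c = ((c.down : ℤ) : MonoidAlgebra (ULift.{u} ℤ) (Multiplicative M)) *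
      MonoidAlgebra.single (Multiplicative.ofAdd m.toAdd) 1 by
        rw [MonoidAlgebra.intCast_def, MonoidAlgebra.single_mul_single, _root_.one_mul, _root_.mul_one,
          ofAdd_toAdd]
        congr 1]
    simp only [map_mul, map_intCast, Scheme.Hom.comp_appTop, ConcreteCategory.comp_apply]
    rw [mul_comm ((c.down : ℤ) : Γ((D k M ⊗ B).left, ⊤)), _root_.mul_assoc, ← map_intCast
      (snd (D k M) B).left.appTop.hom, ← map_mul]
    exact hmul _ _

/-- Functions on a diagonalisable monoid scheme. -/
theorem span_self {motive : Γ((D k M).left, ⊤) → Prop} (h0 : motive 0)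
    (hadd : ∀ s t, motive s → motive t → motive (s + t))
    (hmul : ∀ (m : M) c, motive (mon m * (D k M).hom.appTop c)) (s : Γ((D k M).left, ⊤)) : motive s := by
  refine span_of_isPullback (IsPullback.of_hasPullback (amh M) (toZ k)) h0 hadd
    (fun a b => ?_) s
  rw [← (Scheme.ΓSpecIso (CommRingCat.of (MonoidAlgebra (ULift.{u} ℤ) (Multiplicative M)))).hom_inv_id_apply a]
  generalize (Scheme.ΓSpecIso (CommRingCat.of (MonoidAlgebra (ULift.{u} ℤ) (Multiplicative M)))).hom a = a'
  induction a' using MonoidAlgebra.induction_linear with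
  | zero => simp only [map_zero, zero_mul]; exact h0
  | add x y hx hy => simp only [map_add, add_mul]; exact hadd _ _ hx hy
  | single m c =>
    rw [show MonoidAlgebra.single m c = ((c.down : ℤ) : MonoidAlgebra (ULift.{u} ℤ) (Multiplicative M)) *
      MonoidAlgebra.single (Multiplicative.ofAdd m.toAdd) 1 by
        rw [MonoidAlgebra.intCast_def, MonoidAlgebra.single_mul_single, _root_.one_mul, _root_.mul_one,
          ofAdd_toAdd]
        congr 1]
    simp only [map_mul, map_intCast]
    rw [mul_comm ((c.down : ℤ) : Γ((D k M).left, ⊤)), _root_.mul_assoc,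
      ← map_intCast (pullback.snd (amh M) (toZ k)).appTop.hom, ← map_mul]
    exact hmul _ _

/-- The constant function. -/
def con (c : k) : Γ((D k M).left, ⊤) := (D k M).hom.appTop ((Scheme.ΓSpecIso (CommRingCat.of k)).inv c)

theorem val_con (c : k) (p : Pt (D k M)) : val (con c) p trivial = c := by
  rw [con, val_hom_appTop]; exact Iso.inv_hom_id_apply _ _

/-- Functions on a diagonalisable monoid scheme are polynomials in the monomials. -/
theorem exists_eq_sum (s : Γ((D k M).left, ⊤)) : ∃ a : M →₀ k, s = a.sum fun m c => mon m * con c := by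
  classical
  have hc0 : con (M := M) (0 : k) = 0 := by rw [con, map_zero]; exact map_zero _
  refine span_self (motive := fun s => ∃ a : M →₀ k, s = a.sum fun m c => mon m * con c)
    ⟨0, by rw [Finsupp.sum_zero_index]⟩ ?_
    (fun m c => ⟨Finsupp.single m ((Scheme.ΓSpecIso (CommRingCat.of k)).hom c), ?_⟩) s
  · rintro s t ⟨a, rfl⟩ ⟨b, rfl⟩
    refine ⟨a + b, ?_⟩
    rw [Finsupp.sum_add_index' (fun m => by rw [hc0, mul_zero]) fun m x y => by
      rw [← mul_add]; exact congrArg _ (by rw [con, map_add]; exact map_add _ _ _)]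
  · rw [Finsupp.sum_single_index (by rw [hc0, mul_zero]), con]
    exact congrArg (fun d => mon m * (D k M).hom.appTop d)
      (Iso.hom_inv_id_apply (Scheme.ΓSpecIso (CommRingCat.of k)) c).symm

theorem val_sum (a : M →₀ k) (p : Pt (D k M)) :
    val (U := ⊤) (a.sum fun m c => mon m * con c) p trivial = a.sum fun m c => c * chr p (Multiplicative.ofAdd m) := by
  rw [Finsupp.sum, Finsupp.sum, ← valHom_apply, map_sum]
  refine Finset.sum_congr rfl fun m _ => ?_
  rw [map_mul, valHom_apply, valHom_apply, val_con, mul_comm]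
  rfl

/-- Values of functions on a product with an affine scheme. -/
theorem exists_val_prod_eq (B : Over (Spec (CommRingCat.of k))) [IsAffine B.left] (s : Γ((D k M ⊗ B).left, ⊤)) :
    ∃ b : M →₀ Γ(B.left, ⊤), ∀ (p : Pt (D k M)) (q : Pt B), val s (lift p q) trivial =
      ∑ m ∈ b.support, val (b m) q trivial * chr p (Multiplicative.ofAdd m) := by
  classical
  suffices H : ∃ b : M →₀ Γ(B.left, ⊤), ∀ (p : Pt (D k M)) (q : Pt B), val s (lift p q) trivial =
      b.sum fun m c => val c q trivial * chr p (Multiplicative.ofAdd m) from H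
  refine span_prod B (motive := fun s => ∃ b : M →₀ Γ(B.left, ⊤), ∀ (p : Pt (D k M)) (q : Pt B),
    val s (lift p q) trivial = b.sum fun m c => val c q trivial * chr p (Multiplicative.ofAdd m)) ⟨0, fun p q => ?_⟩ ?_ (fun m c => ⟨Finsupp.single m c, fun p q => ?_⟩) s
  · rw [Finsupp.sum_zero_index]; exact map_zero (valHom (lift p q) (U := ⊤) trivial)
  · rintro s t ⟨a, ha⟩ ⟨b, hb⟩
    refine ⟨a + b, fun p q => ?_⟩
    rw [Finsupp.sum_add_index' (fun m => by rw [show val (0 : Γ(B.left, ⊤)) q trivial = 0 from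
      map_zero (valHom q (U := ⊤) trivial), zero_mul]) (fun m x y => by
      rw [show val (x + y) q trivial = val x q trivial + val y q trivial from
        map_add (valHom q (U := ⊤) trivial) x y, add_mul]), ← ha p q, ← hb p q]
    exact map_add (valHom (lift p q) (U := ⊤) trivial) s t
  · rw [Finsupp.sum_single_index (by rw [show val (0 : Γ(B.left, ⊤)) q trivial = 0 from
      map_zero (valHom q (U := ⊤) trivial), zero_mul])]
    rw [val_mul, val_appTop (fst (D k M) B), val_appTop (snd (D k M) B),
      val_congr (lift_fst p q), val_congr (lift_snd p q), mul_comm]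
    rfl

end Groth.Agent.HMu
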